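import Cfsg.Agent.Lib.DadeExt.Lift

/-!
# The central algebra of an odd fixed-point-free group and the irreducible case
-/

set_option autoImplicit false

noncomputable section

namespace CfsgLib.DadeExt

universe u v

variable {E : Type u} [Group E] [Finite E] (z : E) [hs : IsSymp z] (A : Subgroup (MulAut E))

/-- Adjointness with respect to the pairing. -/
def HasAdj (r r' : Module.End (ZMod 2) (V z)) : Prop := ∀ x y, B z (r x) y = B z x (r' y)

theorem HasAdj.unique {r r₁ r₂ : Module.End (ZMod 2) (V z)} (h₁ : HasAdj z r r₁)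
    (h₂ : HasAdj z r r₂) : r₁ = r₂ := by
  refine LinearMap.ext fun y => sub_eq_zero.1 (B_eq_zero_of_forall z fun x => ?_)
  rw [B_symm, map_sub, ← h₁, ← h₂, sub_self]

theorem HasAdj.symm {r r' : Module.End (ZMod 2) (V z)} (h : HasAdj z r r') : HasAdj z r' r :=
  fun x y => by rw [B_symm, ← h, B_symm]

theorem HasAdj.mul {r r' s s' : Module.End (ZMod 2) (V z)} (h : HasAdj z r r') (h' : HasAdj z s s') :
    HasAdj z (r * s) (s' * r') :=
  fun x y => (h _ _).trans (h' _ _)

theorem hasAdj_piV (α : MulAut E) : HasAdj z (piV z α) (piV z α⁻¹) := fun x y => by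
  conv_lhs => rw [← piV_apply_inv z α y, piV_B]

theorem HasAdj.conj {r r' : Module.End (ZMod 2) (V z)} (h : HasAdj z r r') (α : MulAut E) :
    HasAdj z (piV z α * r * piV z α⁻¹) (piV z α * r' * piV z α⁻¹) := by
  have h1 := ((hasAdj_piV z α).mul z h).mul z (hasAdj_piV z α⁻¹)
  rwa [inv_inv, ← mul_assoc] at h1

/-- The algebra generated by the image of `A`. -/
def spanA : Subalgebra (ZMod 2) (Module.End (ZMod 2) (V z)) :=
  Algebra.adjoin (ZMod 2) ((piV z) '' (A : Set (MulAut E)))

/-- Its centre. -/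
def cenA : Subalgebra (ZMod 2) (Module.End (ZMod 2) (V z)) :=
  spanA z A ⊓ Subalgebra.centralizer (ZMod 2) ((piV z) '' (A : Set (MulAut E)))

variable {z A}

theorem mem_cenA {r : Module.End (ZMod 2) (V z)} :
    r ∈ cenA z A ↔ r ∈ spanA z A ∧ ∀ a ∈ A, piV z a * r = r * piV z a := by
  rw [cenA, Algebra.mem_inf, Subalgebra.mem_centralizer_iff]
  simp

theorem commute_of_mem_spanA {r s : Module.End (ZMod 2) (V z)}
    (hr : ∀ a ∈ A, piV z a * r = r * piV z a) (hs' : s ∈ spanA z A) : s * r = r * s := by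
  induction hs' using Algebra.adjoin_induction with
  | mem x hx => obtain ⟨a, ha, rfl⟩ := hx; exact hr a ha
  | algebraMap c => exact Algebra.commutes c r
  | add x y _ _ hx hy => rw [add_mul, mul_add, hx, hy]
  | mul x y _ _ hx hy => rw [mul_assoc, hy, ← mul_assoc, hx, mul_assoc]

theorem exists_adj_spanA {r : Module.End (ZMod 2) (V z)} (hr : r ∈ spanA z A) :
    ∃ r' ∈ spanA z A, HasAdj z r r' := by
  induction hr using Algebra.adjoin_induction with
  | mem x hx =>
    obtain ⟨a, ha, rfl⟩ := hx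
    exact ⟨_, Algebra.subset_adjoin ⟨_, A.inv_mem ha, rfl⟩, hasAdj_piV z a⟩
  | algebraMap c =>
    refine ⟨_, Subalgebra.algebraMap_mem _ c, fun x y => ?_⟩
    rw [Module.algebraMap_end_apply, Module.algebraMap_end_apply, map_smul, map_smul,
      LinearMap.smul_apply]
  | add x y _ _ hx hy =>
    obtain ⟨x', hx', hx''⟩ := hx
    obtain ⟨y', hy', hy''⟩ := hy
    exact ⟨_, add_mem hx' hy', fun u w => by
      rw [LinearMap.add_apply, map_add, LinearMap.add_apply, hx'', hy'', LinearMap.add_apply, map_add]⟩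
  | mul x y _ _ hx hy =>
    obtain ⟨x', hx', hx''⟩ := hx
    obtain ⟨y', hy', hy''⟩ := hy
    exact ⟨_, mul_mem hy' hx', hx''.mul z hy''⟩

variable (A) in
/-- The adjoint on the centre. -/
theorem exists_adj_cenA {r : Module.End (ZMod 2) (V z)} (hr : r ∈ cenA z A) :
    ∃ r' ∈ cenA z A, HasAdj z r r' := by
  obtain ⟨hr1, hr2⟩ := mem_cenA.1 hr
  obtain ⟨r', hr', hr''⟩ := exists_adj_spanA hr1
  refine ⟨r', mem_cenA.2 ⟨hr', fun a ha => ?_⟩, hr''⟩
  have h1 := hr''.mul z (hasAdj_piV z a⁻¹)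
  have h2 := (hasAdj_piV z a⁻¹).mul z hr''
  rw [hr2 _ (A.inv_mem ha)] at h2
  rw [inv_inv] at h1 h2
  exact h1.unique z h2

theorem cenA_comm {r s : Module.End (ZMod 2) (V z)} (hr : r ∈ cenA z A) (hs' : s ∈ cenA z A) :
    r * s = s * r :=
  commute_of_mem_spanA (mem_cenA.1 hs').2 (mem_cenA.1 hr).1

/-- `φ` normalises `A`. -/
def Normalises {S : Type v} [Group S] (φ : S →* MulAut E) (A : Subgroup (MulAut E)) : Prop :=
  ∀ s, ∀ a ∈ A, φ s * a * (φ s)⁻¹ ∈ A

theorem cenA_conj {α : MulAut E} (h : ∀ a ∈ A, α * a * α⁻¹ ∈ A) (h' : ∀ a ∈ A, α⁻¹ * a * α ∈ A)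
    {r : Module.End (ZMod 2) (V z)} (hr : r ∈ cenA z A) :
    piV z α * r * piV z α⁻¹ ∈ cenA z A := by
  obtain ⟨hr1, hr2⟩ := mem_cenA.1 hr
  have hinv : piV z α⁻¹ * piV z α = 1 := by rw [← map_mul, inv_mul_cancel, map_one]
  refine mem_cenA.2 ⟨?_, fun a ha => ?_⟩
  · clear hr hr2
    induction hr1 using Algebra.adjoin_induction with
    | mem x hx =>
      obtain ⟨a, ha, rfl⟩ := hx
      rw [← map_mul, ← map_mul]
      exact Algebra.subset_adjoin ⟨_, h a ha, rfl⟩
    | algebraMap c =>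
      rw [← Algebra.commutes, mul_assoc, ← map_mul, mul_inv_cancel, map_one, mul_one]
      exact Subalgebra.algebraMap_mem _ c
    | add x y _ _ hx hy => rw [mul_add, add_mul]; exact add_mem hx hy
    | mul x y _ _ hx hy =>
      have e : piV z α * (x * y) * piV z α⁻¹ =
          (piV z α * x * piV z α⁻¹) * (piV z α * y * piV z α⁻¹) := by
        simp only [mul_assoc]
        rw [← mul_assoc (piV z α⁻¹), hinv, one_mul]
      rw [e]; exact mul_mem hx hy
  · have h1 := hr2 _ (h' a ha)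
    have h2 := congrArg (fun t => piV z α * t * piV z α⁻¹) h1
    simp only [map_mul, mul_assoc] at h2 ⊢
    have hinv' : ∀ t : Module.End (ZMod 2) (V z), piV z α * (piV z α⁻¹ * t) = t := fun t => by
      rw [← mul_assoc, ← map_mul, mul_inv_cancel, map_one, one_mul]
    rw [hinv', ← map_mul (piV z) α, mul_inv_cancel, map_one, mul_one] at h2
    exact h2

/-- The centre is reduced. -/
theorem eq_zero_of_sq_eq_zero (hA : Fpf z A) {r : Module.End (ZMod 2) (V z)} (hr : r ∈ cenA z A)
    (h : r * r = 0) : r = 0 := by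
  obtain ⟨hr1, hr2⟩ := mem_cenA.1 hr
  have := Fintype.ofFinite A
  obtain ⟨f, hf⟩ := LinearMap.exists_extend (p := LinearMap.range r) LinearMap.id
  let p₀ : Module.End (ZMod 2) (V z) := (LinearMap.range r).subtype ∘ₗ f
  have hp₀ : ∀ x, p₀ (r x) = r x := fun x =>
    congrArg Subtype.val (LinearMap.congr_fun hf ⟨r x, LinearMap.mem_range_self r x⟩)
  have hp₀r : ∀ x, p₀ x ∈ LinearMap.range r := fun x => (f x).2
  let p : Module.End (ZMod 2) (V z) := ∑ a : A, piV z a * p₀ * piV z (a : MulAut E)⁻¹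
  have hpc : ∀ a ∈ A, piV z a * p = p * piV z a := by
    intro a ha
    show piV z a * (∑ b : A, _) = (∑ b : A, _) * piV z a
    rw [Finset.mul_sum, Finset.sum_mul]
    refine Fintype.sum_equiv (Equiv.mulLeft (⟨a, ha⟩ : A)) _ _ fun b => ?_
    show piV z a * (piV z b * p₀ * piV z (b : MulAut E)⁻¹) =
      piV z (a * b) * p₀ * piV z (a * (b : MulAut E))⁻¹ * piV z a
    simp only [mul_assoc, ← map_mul, mul_inv_rev, inv_mul_cancel, mul_one]
    rw [map_mul, mul_assoc]
  have hcom := commute_of_mem_spanA hpc hr1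
  refine LinearMap.ext fun x => ?_
  have h1 : p (r x) = r x := by
    show (∑ a : A, piV z a * p₀ * piV z (a : MulAut E)⁻¹) (r x) = r x
    rw [LinearMap.sum_apply]
    have : ∀ a : A, (piV z a * p₀ * piV z (a : MulAut E)⁻¹) (r x) = r x := by
      intro a
      have e1 : piV z (a : MulAut E)⁻¹ (r x) = r (piV z (a : MulAut E)⁻¹ x) :=
        LinearMap.congr_fun (hr2 _ (A.inv_mem a.2)) x
      have e2 : ∀ y, piV z a (r y) = r (piV z a y) := LinearMap.congr_fun (hr2 _ a.2)
      show piV z a (p₀ (piV z (a : MulAut E)⁻¹ (r x))) = r x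
      rw [e1, hp₀, e2, piV_apply_inv]
    rw [Finset.sum_congr rfl fun a _ => this a, Finset.sum_const, Finset.card_univ,
      ← Nat.card_eq_fintype_card, odd_smul z hA]
  have h3 : ∀ y, p y ∈ LinearMap.range r := by
    intro y
    show (∑ a : A, piV z a * p₀ * piV z (a : MulAut E)⁻¹) y ∈ _
    rw [LinearMap.sum_apply]
    refine Submodule.sum_mem _ fun a _ => ?_
    obtain ⟨w, hw⟩ := hp₀r (piV z (a : MulAut E)⁻¹ y)
    refine ⟨piV z a w, ?_⟩
    show r (piV z a w) = piV z a (p₀ _)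
    rw [← hw]
    exact (LinearMap.congr_fun (hr2 _ a.2) w).symm
  obtain ⟨w, hw⟩ := h3 x
  have h4 : r (p x) = p (r x) := LinearMap.congr_fun hcom x
  rw [← hw, h1, ← Module.End.mul_apply, h, LinearMap.zero_apply] at h4
  rw [LinearMap.zero_apply]
  exact h4.symm

/-- Some element of the centre is not self-adjoint. -/
theorem exists_not_selfadj (hA : Fpf z A) (hV : Nontrivial (V z)) :
    ∃ r ∈ cenA z A, ¬ HasAdj z r r := by
  classical
  by_contra hcon
  push Not at hcon
  have := Fintype.ofFinite A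
  let K : ConjClasses A → Module.End (ZMod 2) (V z) :=
    fun C => ∑ a ∈ Finset.univ.filter (fun a : A => ConjClasses.mk a = C), piV z a
  have hK : ∀ C, K C ∈ cenA z A := by
    intro C
    refine mem_cenA.2 ⟨sum_mem fun a _ => Algebra.subset_adjoin ⟨_, a.2, rfl⟩, fun g hg => ?_⟩
    simp only [K, Finset.mul_sum, Finset.sum_mul]
    refine Finset.sum_equiv (MulAut.conj (⟨g, hg⟩ : A)).toEquiv (fun a => ?_) fun a _ => ?_
    · simp only [Finset.mem_filter, Finset.mem_univ, true_and]
      have e : ConjClasses.mk ((MulAut.conj (⟨g, hg⟩ : A)) a) = ConjClasses.mk a :=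
        ConjClasses.mk_eq_mk_iff_isConj.2 (isConj_iff.2 ⟨(⟨g, hg⟩ : A)⁻¹, by simp [mul_assoc]⟩)
      show ConjClasses.mk a = C ↔ ConjClasses.mk ((MulAut.conj (⟨g, hg⟩ : A)) a) = C
      rw [e]
    · show piV z g * piV z a = piV z (g * a * g⁻¹) * piV z g
      rw [← map_mul, ← map_mul, inv_mul_cancel_right]
  let inv' : ConjClasses A → ConjClasses A :=
    Quotient.lift (fun a => ConjClasses.mk a⁻¹) fun a b h => by
      obtain ⟨c, hc⟩ := isConj_iff.1 (h : IsConj a b)
      refine ConjClasses.mk_eq_mk_iff_isConj.2 (isConj_iff.2 ⟨c, ?_⟩)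
      rw [← hc, mul_inv_rev, mul_inv_rev, inv_inv, mul_assoc]
  have hinv' : ∀ a, inv' (ConjClasses.mk a) = ConjClasses.mk a⁻¹ := fun a => rfl
  have hinv2 : ∀ C, inv' (inv' C) = C := fun C => Quotient.inductionOn C fun a => by
    show inv' (inv' (ConjClasses.mk a)) = ConjClasses.mk a
    rw [hinv', hinv', inv_inv]
  have hKinv : ∀ C, K (inv' C) = K C := by
    intro C
    refine HasAdj.unique z (r := K C) ?_ (hcon _ (hK C))
    intro x y
    simp only [K, LinearMap.sum_apply, map_sum]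
    refine Finset.sum_equiv (Equiv.inv A) (fun a => ?_) fun a _ => hasAdj_piV z a x y
    simp only [Finset.mem_filter, Finset.mem_univ, true_and, Equiv.inv_apply]
    constructor
    · rintro rfl; exact (hinv' a).symm
    · intro h; rw [← hinv2 C, ← h, hinv', inv_inv]
  have := Fintype.ofFinite (ConjClasses A)
  have hfix : ∀ C, C ≠ ConjClasses.mk 1 → inv' C ≠ C := by
    intro C
    refine Quotient.inductionOn C fun a ha h => ha ?_
    obtain ⟨g, hg⟩ := isConj_iff.1 (ConjClasses.mk_eq_mk_iff_isConj.1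
      ((hinv' a).symm.trans (h : inv' (ConjClasses.mk a) = ConjClasses.mk a)).symm)
    have h2 : Commute (g ^ 2) a := by
      show g ^ 2 * a = a * g ^ 2
      have e : g * (g * a * g⁻¹) * g⁻¹ = a := by
        rw [hg, show g * a⁻¹ * g⁻¹ = (g * a * g⁻¹)⁻¹ by group, hg, inv_inv]
      calc g ^ 2 * a = g * (g * a * g⁻¹) * g⁻¹ * g ^ 2 := by rw [sq]; group
        _ = a * g ^ 2 := by rw [e]
    have hodd : Odd (orderOf g) := hA.odd.of_dvd_nat (orderOf_dvd_natCard g)
    obtain ⟨k, hk⟩ := hodd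
    have hg1 : Commute g a := by
      have h3 : g = (g ^ 2) ^ (k + 1) := by
        rw [← pow_mul, show 2 * (k + 1) = (2 * k + 1) + 1 by ring, pow_succ, ← hk,
          pow_orderOf_eq_one, one_mul]
      rw [h3]; exact h2.pow_left _
    have h4 : a⁻¹ = a := by rw [← hg, hg1.eq, mul_inv_cancel_right]
    have h5 : a ^ 2 = 1 := by rw [sq]; nth_rewrite 1 [← h4]; exact inv_mul_cancel a
    have h6 : Nat.card A % 2 = 1 := Nat.odd_iff.1 hA.odd
    have h7 : a = 1 := by
      have h8 := pow_card_eq_one' (x := a)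
      rw [← Nat.div_add_mod (Nat.card A) 2, pow_add, pow_mul, h5, one_pow, one_mul, h6, pow_one] at h8
      exact h8
    rw [h7]; rfl
  have h0 : ∑ C, K C = 0 := by
    rw [Finset.sum_fiberwise]
    exact LinearMap.ext fun x => by rw [LinearMap.sum_apply]; exact fpf_sum z hA x
  have h1 : ∑ C ∈ Finset.univ.erase (ConjClasses.mk 1), K C = 0 := by
    refine Finset.sum_involution (fun C _ => inv' C) (fun C _ => ?_) (fun C hC _ => ?_)
      (fun C hC => ?_) fun C _ => hinv2 C
    · rw [hKinv]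
      exact LinearMap.ext fun x => add_self z _
    · exact hfix C (Finset.ne_of_mem_erase hC)
    · refine Finset.mem_erase.2 ⟨fun h => ?_, Finset.mem_univ _⟩
      have h' := congrArg inv' h
      rw [hinv2, hinv', inv_one] at h'
      exact Finset.ne_of_mem_erase hC h'
  rw [← Finset.add_sum_erase _ _ (Finset.mem_univ (ConjClasses.mk 1)), h1, add_zero] at h0
  have h2 : K (ConjClasses.mk 1) = 1 := by
    simp only [K]
    rw [show Finset.univ.filter (fun a : A => ConjClasses.mk a = ConjClasses.mk 1) = {1} from ?_,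
      Finset.sum_singleton]
    · exact map_one _
    · ext a
      simp [ConjClasses.mk_eq_mk_iff_isConj]
  rw [h2] at h0
  obtain ⟨x, hx⟩ := exists_ne (0 : V z)
  exact hx (LinearMap.congr_fun h0 x)

end CfsgLib.DadeExt
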