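import Mathlib

/-!
# Groups of extraspecial type for the prime two and their symplectic spaces

`E` with a distinguished central involution `z` such that commutators and squares lie in
`{1, z}` and the centre is `{1, z}`; the quotient is a quadratic space over `ZMod 2`.
-/

set_option autoImplicit false

noncomputable section

namespace CfsgLib.DadeExt

universe u v

variable {E : Type u} [Group E] (z : E)

/-- `z` is a central involution making `E` extraspecial or of order two. -/
class IsSymp : Prop where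
  ne_one : z ≠ 1
  z_mul : z * z = 1
  central : ∀ e : E, z * e = e * z
  comm : ∀ a b : E, a * b = b * a ∨ a * b = b * a * z
  sq : ∀ a : E, a * a = 1 ∨ a * a = z
  centre : ∀ a : E, (∀ b : E, a * b = b * a) → a = 1 ∨ a = z

/-- The powers of `z`. -/
def zp (i : ZMod 2) : E := if i = 0 then 1 else z

theorem zp_zero : zp z 0 = 1 := if_pos rfl

theorem zp_one : zp z 1 = z := if_neg one_ne_zero

theorem zmod2_cases (i : ZMod 2) : i = 0 ∨ i = 1 := by revert i; decide

variable [hs : IsSymp z]

theorem zp_add (i j : ZMod 2) : zp z (i + j) = zp z i * zp z j := by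
  rcases zmod2_cases i with rfl | rfl <;> rcases zmod2_cases j with rfl | rfl <;>
    simp [zp, hs.z_mul, show (1 : ZMod 2) + 1 = 0 from rfl]

theorem zp_comm (i : ZMod 2) (e : E) : zp z i * e = e * zp z i := by
  rcases zmod2_cases i with rfl | rfl
  · simp [zp_zero]
  · rw [zp_one]; exact hs.central e

theorem zp_injective : Function.Injective (zp z) := by
  intro i j h
  rcases zmod2_cases i with rfl | rfl <;> rcases zmod2_cases j with rfl | rfl <;>
    simp_all [zp, hs.ne_one, Ne.symm hs.ne_one]

theorem mul_swap_exists (a b : E) : ∃ i : ZMod 2, a * b = b * a * zp z i := by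
  rcases hs.comm a b with h | h
  · exact ⟨0, by simpa [zp_zero] using h⟩
  · exact ⟨1, by simpa [zp_one] using h⟩

/-- The commutator pairing on `E`. -/
def cc (a b : E) : ZMod 2 := Classical.choose (mul_swap_exists z a b)

theorem cc_spec (a b : E) : a * b = b * a * zp z (cc z a b) :=
  Classical.choose_spec (mul_swap_exists z a b)

theorem cc_eq {a b : E} {i : ZMod 2} (h : a * b = b * a * zp z i) : cc z a b = i :=
  zp_injective z (mul_left_cancel ((cc_spec z a b).symm.trans h))

theorem cc_eq_zero {a b : E} : cc z a b = 0 ↔ a * b = b * a := by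
  constructor
  · intro h; simpa [h, zp_zero] using cc_spec z a b
  · intro h; exact cc_eq z (by simpa [zp_zero] using h)

theorem cc_mul_left (a a' b : E) : cc z (a * a') b = cc z a b + cc z a' b := by
  apply cc_eq
  rw [zp_add]
  calc a * a' * b = a * (b * a' * zp z (cc z a' b)) := by rw [mul_assoc, cc_spec z a' b]
    _ = b * a * zp z (cc z a b) * a' * zp z (cc z a' b) := by
        simp only [← mul_assoc]; rw [cc_spec z a b]
    _ = b * a * (zp z (cc z a b) * a') * zp z (cc z a' b) := by group
    _ = _ := by rw [zp_comm z (cc z a b) a']; group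

theorem cc_swap (a b : E) : cc z b a = cc z a b := by
  apply cc_eq
  rw [cc_spec z a b, mul_assoc, ← zp_add, CharTwo.add_self_eq_zero, zp_zero, mul_one]

theorem cc_mul_right (a b b' : E) : cc z a (b * b') = cc z a b + cc z a b' := by
  rw [cc_swap z (b * b') a, cc_mul_left, cc_swap z a b, cc_swap z a b']

theorem cc_self (a : E) : cc z a a = 0 := (cc_eq_zero z).2 rfl

theorem cc_z (a : E) : cc z z a = 0 := (cc_eq_zero z).2 (hs.central a)

theorem sq_exists (a : E) : ∃ i : ZMod 2, a * a = zp z i := by
  rcases hs.sq a with h | h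
  · exact ⟨0, by simpa [zp_zero] using h⟩
  · exact ⟨1, by simpa [zp_one] using h⟩

/-- The squaring map. -/
def qq (a : E) : ZMod 2 := Classical.choose (sq_exists z a)

theorem qq_spec (a : E) : a * a = zp z (qq z a) := Classical.choose_spec (sq_exists z a)

theorem qq_eq {a : E} {i : ZMod 2} (h : a * a = zp z i) : qq z a = i :=
  zp_injective z ((qq_spec z a).symm.trans h)

theorem qq_mul (a b : E) : qq z (a * b) = qq z a + qq z b + cc z a b := by
  apply qq_eq
  have h : b * a = a * b * zp z (cc z a b) := by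
    rw [cc_spec z b a, cc_swap]
  calc a * b * (a * b) = a * (b * a) * b := by group
    _ = a * a * b * (zp z (cc z a b) * b) := by rw [h]; group
    _ = (a * a) * (b * b) * zp z (cc z a b) := by rw [zp_comm]; group
    _ = _ := by rw [qq_spec z a, qq_spec z b, zp_add, zp_add]

/-- The subgroup `{1, z}`. -/
def zsub : Subgroup E := Subgroup.zpowers z

theorem mem_zsub {e : E} : e ∈ zsub z ↔ e = 1 ∨ e = z := by
  constructor
  · intro h
    obtain ⟨n, rfl⟩ := Subgroup.mem_zpowers_iff.1 h
    have h2 : z ^ (2 : ℤ) = 1 := by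
      rw [show (2 : ℤ) = 1 + 1 from rfl, zpow_add, zpow_one, hs.z_mul]
    rcases Int.even_or_odd' n with ⟨k, rfl | rfl⟩
    · left; rw [zpow_mul, h2, one_zpow]
    · right; rw [zpow_add, zpow_mul, h2, one_zpow, one_mul, zpow_one]
  · rintro (rfl | rfl)
    · exact one_mem _
    · exact Subgroup.mem_zpowers _

theorem zp_mem_zsub (i : ZMod 2) : zp z i ∈ zsub z := by
  rcases zmod2_cases i with rfl | rfl
  · rw [zp_zero]; exact one_mem _
  · rw [zp_one]; exact (mem_zsub z).2 (Or.inr rfl)

instance zsub_normal : (zsub z).Normal where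
  conj_mem n hn g := by
    rcases (mem_zsub z).1 hn with rfl | rfl
    · simp
    · rw [← hs.central g, mul_inv_cancel_right]; exact hn

/-- The symplectic space `E / ⟨z⟩`. -/
def V : Type u := Additive (E ⧸ zsub z)

instance quotientCommGroup : CommGroup (E ⧸ zsub z) :=
  { (inferInstance : Group (E ⧸ zsub z)) with
    mul_comm := fun x y => by
      obtain ⟨a, rfl⟩ := QuotientGroup.mk'_surjective (zsub z) x
      obtain ⟨b, rfl⟩ := QuotientGroup.mk'_surjective (zsub z) y
      show ((a * b : E) : E ⧸ zsub z) = ((b * a : E) : E ⧸ zsub z)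
      rw [cc_spec z a b]
      exact QuotientGroup.mk_mul_of_mem _ (zp_mem_zsub z _) }

instance : AddCommGroup (V z) := inferInstanceAs (AddCommGroup (Additive (E ⧸ zsub z)))

/-- The projection. -/
def mk (e : E) : V z := Additive.ofMul (e : E ⧸ zsub z)

theorem mk_mul (a b : E) : mk z (a * b) = mk z a + mk z b := rfl

theorem mk_one : mk z (1 : E) = 0 := rfl

theorem mk_inv (a : E) : mk z a⁻¹ = -mk z a := rfl

theorem mk_surjective : Function.Surjective (mk z) := fun x => QuotientGroup.mk'_surjective (zsub z) x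

theorem mk_eq_zero {e : E} : mk z e = 0 ↔ e = 1 ∨ e = z :=
  (QuotientGroup.eq_one_iff e).trans (mem_zsub z)

theorem mk_z : mk z z = 0 := (mk_eq_zero z).2 (Or.inr rfl)

theorem mk_zp (i : ZMod 2) : mk z (zp z i) = 0 := (QuotientGroup.eq_one_iff _).2 (zp_mem_zsub z i)

theorem two_smul_eq (x : V z) : 2 • x = 0 := by
  obtain ⟨a, rfl⟩ := mk_surjective z x
  rw [two_nsmul, ← mk_mul, qq_spec z a, mk_zp]

instance : Module (ZMod 2) (V z) := AddCommGroup.zmodModule (two_smul_eq z)

theorem add_self (x : V z) : x + x = 0 := by rw [← two_nsmul]; exact two_smul_eq z x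

theorem neg_eq (x : V z) : -x = x := neg_eq_of_add_eq_zero_left (add_self z x)

instance [Finite E] : Finite (V z) := inferInstanceAs (Finite (Additive (E ⧸ zsub z)))

theorem mk_eq_mk {a b : E} : mk z a = mk z b ↔ ∃ i, b = a * zp z i := by
  constructor
  · intro h
    have h0 : mk z (a⁻¹ * b) = 0 := by rw [mk_mul, mk_inv, h, neg_add_cancel]
    rcases (mk_eq_zero z).1 h0 with h1 | h1
    · exact ⟨0, by rw [zp_zero, mul_one]; exact (inv_mul_eq_one.1 h1).symm⟩
    · exact ⟨1, by rw [zp_one]; exact inv_mul_eq_iff_eq_mul.1 h1⟩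
  · rintro ⟨i, rfl⟩
    rw [mk_mul, mk_zp, add_zero]

/-- The pairing on `V`, as a function. -/
def bfun (x y : V z) : ZMod 2 :=
  cc z (Classical.choose (mk_surjective z x)) (Classical.choose (mk_surjective z y))

theorem bfun_mk (a b : E) : bfun z (mk z a) (mk z b) = cc z a b := by
  unfold bfun
  obtain ⟨i, hi⟩ := (mk_eq_mk z).1 (Classical.choose_spec (mk_surjective z (mk z a)))
  obtain ⟨j, hj⟩ := (mk_eq_mk z).1 (Classical.choose_spec (mk_surjective z (mk z b)))
  have h0 : ∀ (k : ZMod 2) (e : E), cc z (zp z k) e = 0 := fun k e => (cc_eq_zero z).2 (zp_comm z k e)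
  have h1 : ∀ (k : ZMod 2) (e : E), cc z e (zp z k) = 0 := fun k e => by rw [cc_swap]; exact h0 k e
  conv_rhs => rw [hi, hj]
  rw [cc_mul_left, cc_mul_right, cc_mul_right, h0, h0, h1, add_zero, add_zero, add_zero]

/-- The pairing on `V`. -/
def B : LinearMap.BilinForm (ZMod 2) (V z) :=
  LinearMap.mk₂ (ZMod 2) (bfun z)
    (fun x x' y => by
      obtain ⟨a, rfl⟩ := mk_surjective z x
      obtain ⟨a', rfl⟩ := mk_surjective z x'
      obtain ⟨b, rfl⟩ := mk_surjective z y
      rw [← mk_mul, bfun_mk, bfun_mk, bfun_mk, cc_mul_left])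
    (fun c x y => by
      obtain ⟨a, rfl⟩ := mk_surjective z x
      obtain ⟨b, rfl⟩ := mk_surjective z y
      rcases zmod2_cases c with rfl | rfl
      · rw [zero_smul, ← mk_one z, bfun_mk, zero_smul, cc_eq_zero]; simp
      · rw [one_smul, one_smul])
    (fun x y y' => by
      obtain ⟨a, rfl⟩ := mk_surjective z x
      obtain ⟨b, rfl⟩ := mk_surjective z y
      obtain ⟨b', rfl⟩ := mk_surjective z y'
      rw [← mk_mul, bfun_mk, bfun_mk, bfun_mk, cc_mul_right])
    (fun c x y => by
      obtain ⟨a, rfl⟩ := mk_surjective z x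
      obtain ⟨b, rfl⟩ := mk_surjective z y
      rcases zmod2_cases c with rfl | rfl
      · rw [zero_smul, ← mk_one z, bfun_mk, zero_smul, cc_eq_zero]; simp
      · rw [one_smul, one_smul])

theorem B_mk (a b : E) : B z (mk z a) (mk z b) = cc z a b := bfun_mk z a b

theorem B_symm (x y : V z) : B z x y = B z y x := by
  obtain ⟨a, rfl⟩ := mk_surjective z x
  obtain ⟨b, rfl⟩ := mk_surjective z y
  rw [B_mk, B_mk, cc_swap]

theorem B_isRefl : (B z).IsRefl := fun x y h => by rwa [B_symm]

theorem B_eq_zero_of_forall {x : V z} (h : ∀ y, B z x y = 0) : x = 0 := by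
  obtain ⟨a, rfl⟩ := mk_surjective z x
  exact (mk_eq_zero z).2 (hs.centre a fun b => (cc_eq_zero z).1 ((B_mk z a b).symm.trans (h _)))

theorem B_nondeg : (B z).Nondegenerate :=
  ⟨fun _ h => B_eq_zero_of_forall z h, fun y h => B_eq_zero_of_forall z fun x => by rw [B_symm]; exact h x⟩

/-- The subgroup over a subspace. -/
def pre (W : Submodule (ZMod 2) (V z)) : Subgroup E where
  carrier := {e | mk z e ∈ W}
  one_mem' := W.zero_mem
  mul_mem' := fun {a b} ha hb => by simpa [mk_mul] using W.add_mem ha hb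
  inv_mem' := fun {a} ha => by simpa [mk_inv] using W.neg_mem ha

theorem mem_pre {W : Submodule (ZMod 2) (V z)} {e : E} : e ∈ pre z W ↔ mk z e ∈ W := Iff.rfl

theorem z_mem_pre (W : Submodule (ZMod 2) (V z)) : z ∈ pre z W := by
  rw [mem_pre, mk_z]; exact W.zero_mem

theorem card_pre [Finite E] (W : Submodule (ZMod 2) (V z)) : Nat.card (pre z W) = 2 * Nat.card W := by
  let f : pre z W →* Multiplicative W :=
    { toFun := fun e => Multiplicative.ofAdd ⟨mk z e.1, e.2⟩
      map_one' := rfl
      map_mul' := fun a b => rfl }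
  have hf : Function.Surjective f := fun x => by
    obtain ⟨e, he⟩ := mk_surjective z (Multiplicative.toAdd x).1
    exact ⟨⟨e, by rw [mem_pre, he]; exact (Multiplicative.toAdd x).2⟩,
      Multiplicative.toAdd.injective (Subtype.ext he)⟩
  rw [Subgroup.card_eq_card_quotient_mul_card_subgroup f.ker,
    Nat.card_congr (QuotientGroup.quotientKerEquivOfSurjective f hf).toEquiv, mul_comm]
  congr 1
  rw [Nat.card_eq_two_iff]
  refine ⟨1, ⟨⟨z, z_mem_pre z W⟩, Multiplicative.toAdd.injective (Subtype.ext (mk_z z))⟩, ?_, ?_⟩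
  · intro h
    exact hs.ne_one (congrArg (fun k : f.ker => ((k : pre z W) : E)) h).symm
  · refine Set.eq_univ_of_forall fun k => ?_
    have : mk z ((k : pre z W) : E) = 0 := congrArg (fun x => (Multiplicative.toAdd x : W).1) k.2
    rcases (mk_eq_zero z).1 this with h | h
    · exact Or.inl (Subtype.ext (Subtype.ext h))
    · exact Or.inr (Set.mem_singleton_iff.2 (Subtype.ext (Subtype.ext h)))

theorem card_eq [Finite E] : Nat.card E = 2 * Nat.card (V z) := by
  have h := card_pre z (⊤ : Submodule (ZMod 2) (V z))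
  have h1 : pre z (⊤ : Submodule (ZMod 2) (V z)) = ⊤ := by ext e; simp [mem_pre]
  rw [h1, Subgroup.card_top, Nat.card_congr (Equiv.subtypeUnivEquiv fun x => Submodule.mem_top)] at h
  exact h

theorem card_mul_card_orthogonal [Finite E] (W : Submodule (ZMod 2) (V z)) :
    Nat.card W * Nat.card ((B z).orthogonal W) = Nat.card (V z) := by
  rw [Module.natCard_eq_pow_finrank (K := ZMod 2) (V := W),
    Module.natCard_eq_pow_finrank (K := ZMod 2) (V := (B z).orthogonal W),
    Module.natCard_eq_pow_finrank (K := ZMod 2) (V := V z), ← pow_add,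
    LinearMap.BilinForm.finrank_orthogonal (B_nondeg z)]
  congr 1
  have := Submodule.finrank_le W
  omega

/-! ### Automorphisms -/

theorem aut_fix (α : MulAut E) : α z = z := by
  rcases hs.centre (α z) (fun b => by
    obtain ⟨c, rfl⟩ := α.surjective b
    rw [← map_mul, ← map_mul, hs.central]) with h | h
  · exact absurd ((map_eq_one_iff α α.injective).1 h) hs.ne_one
  · exact h

theorem aut_zp (α : MulAut E) (i : ZMod 2) : α (zp z i) = zp z i := by
  rcases zmod2_cases i with rfl | rfl
  · rw [zp_zero, map_one]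
  · rw [zp_one, aut_fix z]

/-- The action of automorphisms on `V`, as a map. -/
def piFun (α : MulAut E) (x : V z) : V z := mk z (α (Classical.choose (mk_surjective z x)))

theorem piFun_mk (α : MulAut E) (e : E) : piFun z α (mk z e) = mk z (α e) := by
  obtain ⟨i, hi⟩ := (mk_eq_mk z).1 (Classical.choose_spec (mk_surjective z (mk z e)))
  refine (mk_eq_mk z).2 ⟨i, ?_⟩
  conv_lhs => rw [hi]
  rw [map_mul, aut_zp]

/-- The action of automorphisms on `V`. -/
def piV : MulAut E →* Module.End (ZMod 2) (V z) where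
  toFun α := AddMonoidHom.toZModLinearMap 2
    { toFun := piFun z α
      map_zero' := by rw [← mk_one z, piFun_mk, map_one]
      map_add' := fun x y => by
        obtain ⟨a, rfl⟩ := mk_surjective z x
        obtain ⟨b, rfl⟩ := mk_surjective z y
        rw [← mk_mul, piFun_mk, piFun_mk, piFun_mk, map_mul, mk_mul] }
  map_one' := LinearMap.ext fun x => by
    obtain ⟨a, rfl⟩ := mk_surjective z x
    exact piFun_mk z 1 a
  map_mul' := fun α β => LinearMap.ext fun x => by
    obtain ⟨a, rfl⟩ := mk_surjective z x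
    show piFun z (α * β) (mk z a) = piFun z α (piFun z β (mk z a))
    rw [piFun_mk, piFun_mk, piFun_mk]; rfl

theorem piV_mk (α : MulAut E) (e : E) : piV z α (mk z e) = mk z (α e) := piFun_mk z α e

theorem piV_B (α : MulAut E) (x y : V z) : B z (piV z α x) (piV z α y) = B z x y := by
  obtain ⟨a, rfl⟩ := mk_surjective z x
  obtain ⟨b, rfl⟩ := mk_surjective z y
  rw [piV_mk, piV_mk, B_mk, B_mk]
  apply cc_eq
  rw [← map_mul, cc_spec z a b, map_mul, map_mul, aut_zp]

theorem piV_inv_apply (α : MulAut E) (x : V z) : piV z α⁻¹ (piV z α x) = x := by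
  rw [← Module.End.mul_apply, ← map_mul, inv_mul_cancel, map_one, Module.End.one_apply]

theorem piV_apply_inv (α : MulAut E) (x : V z) : piV z α (piV z α⁻¹ x) = x := by
  rw [← Module.End.mul_apply, ← map_mul, mul_inv_cancel, map_one, Module.End.one_apply]

/-- A subspace invariant under a set of automorphisms. -/
def Inv (T : Set (MulAut E)) (W : Submodule (ZMod 2) (V z)) : Prop :=
  ∀ α ∈ T, ∀ x ∈ W, piV z α x ∈ W

theorem Inv.orthogonal {T : Subgroup (MulAut E)} {W : Submodule (ZMod 2) (V z)}
    (h : Inv z (T : Set (MulAut E)) W) : Inv z (T : Set (MulAut E)) ((B z).orthogonal W) := by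
  intro α hα x hx w hw
  show B z w (piV z α x) = 0
  rw [← piV_apply_inv z α w, piV_B]
  exact hx _ (h _ (T.inv_mem hα) w hw)

/-- An odd subgroup of automorphisms without non-zero fixed points on `V`. -/
structure Fpf (A : Subgroup (MulAut E)) : Prop where
  odd : Odd (Nat.card A)
  fpf : ∀ v : V z, (∀ a ∈ A, piV z a v = v) → v = 0

variable [Finite E]

instance : Finite (MulAut E) := Finite.of_injective (fun α => (α : E → E)) DFunLike.coe_injective

theorem fpf_sum {A : Subgroup (MulAut E)} [Fintype A] (hA : Fpf z A) (v : V z) :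
    ∑ a : A, piV z a v = 0 := by
  apply hA.fpf
  intro b hb
  rw [map_sum]
  exact Fintype.sum_equiv (Equiv.mulLeft ⟨b, hb⟩) _ _ fun a => by
    rw [← Module.End.mul_apply, ← map_mul]; rfl

theorem odd_smul {A : Subgroup (MulAut E)} (hA : Fpf z A) (v : V z) : Nat.card A • v = v := by
  obtain ⟨k, hk⟩ := hA.odd
  rw [hk, add_smul, one_smul, mul_comm, mul_smul, two_smul_eq, smul_zero, zero_add]

theorem fpf_mod {A : Subgroup (MulAut E)} (hA : Fpf z A) (W : Submodule (ZMod 2) (V z)) (v : V z)
    (h : ∀ a ∈ A, piV z a v - v ∈ W) : v ∈ W := by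
  have := Fintype.ofFinite A
  have h1 : (∑ a : A, (piV z a v - v)) ∈ W := Submodule.sum_mem _ fun a _ => h a a.2
  rw [Finset.sum_sub_distrib, fpf_sum z hA, Finset.sum_const, Finset.card_univ,
    ← Nat.card_eq_fintype_card, odd_smul z hA, zero_sub] at h1
  simpa [neg_eq] using h1

/-- An invariant functional vanishes. -/
theorem functional_eq_zero {A : Subgroup (MulAut E)} (hA : Fpf z A) (l : V z →+ ZMod 2)
    (h : ∀ a ∈ A, ∀ v, l (piV z a v) = l v) : l = 0 := by
  have := Fintype.ofFinite A
  ext v
  have h1 := congrArg l (fpf_sum z hA v)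
  rw [map_sum, map_zero, Finset.sum_congr rfl (fun (a : A) _ => h a a.2 v), Finset.sum_const,
    Finset.card_univ, ← Nat.card_eq_fintype_card, ← map_nsmul, odd_smul z hA] at h1
  exact h1

omit [Finite E] in
/-- A representation of `E` with `z ↦ -1` of dimension squared `|E| / 2`, extended to `S`. -/
def Ext {S : Type v} [Group S] (φ : S →* MulAut E) : Prop :=
  ∃ (n : ℕ) (ρ : Representation ℂ E (Fin n → ℂ)) (σ : Representation ℂ S (Fin n → ℂ)),
    2 * n ^ 2 = Nat.card E ∧ ρ z = -1 ∧ ∀ s e, σ s * ρ e = ρ (φ s e) * σ s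

theorem Ext.of_module {S : Type v} [Group S] (φ : S →* MulAut E) {W : Type*} [AddCommGroup W]
    [Module ℂ W] [FiniteDimensional ℂ W] (ρ : Representation ℂ E W) (σ : Representation ℂ S W)
    (hn : 2 * Module.finrank ℂ W ^ 2 = Nat.card E) (hz : ρ z = -1)
    (h : ∀ s e, σ s * ρ e = ρ (φ s e) * σ s) : Ext z φ := by
  let b := (Module.finBasis ℂ W).equivFun
  let c := b.conjAlgEquiv ℂ
  refine ⟨_, c.toMulEquiv.toMonoidHom.comp ρ, c.toMulEquiv.toMonoidHom.comp σ, hn, ?_, fun s e => ?_⟩
  · show c (ρ z) = -1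
    rw [hz, map_neg, map_one]
  · show c (σ s) * c (ρ e) = c (ρ (φ s e)) * c (σ s)
    rw [← map_mul, ← map_mul, h]

/-- The group of order two. -/
theorem Ext.of_trivial {S : Type v} [Group S] (φ : S →* MulAut E) (h : Subsingleton (V z)) :
    Ext z φ := by
  have hcard : Nat.card E = 2 := by rw [card_eq z, Nat.card_unique, mul_one]
  have hE : ∀ e : E, e = 1 ∨ e = z := fun e => (mk_eq_zero z).1 (Subsingleton.elim _ _)
  classical
  let ρ : Representation ℂ E ℂ :=
    { toFun := fun e => if e = 1 then 1 else -1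
      map_one' := if_pos rfl
      map_mul' := fun a b => by
        rcases hE a with rfl | rfl <;> rcases hE b with rfl | rfl <;> simp [hs.z_mul, hs.ne_one] }
  refine Ext.of_module z φ ρ 1 (by simp [hcard]) (if_neg hs.ne_one) fun s e => ?_
  rcases hE e with rfl | rfl
  · simp
  · simp [aut_fix]

end CfsgLib.DadeExt
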