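import Cfsg.Agent.Lib.DadeExt.Tensor

/-!
# Induction from the orthogonal of a totally isotropic subspace
-/

set_option autoImplicit false

noncomputable section

namespace CfsgLib.DadeExt

universe u v

variable {E : Type u} [Group E]

section Ind

variable (M : Subgroup E) {U : Type*} [AddCommGroup U] [Module ℂ U] (τ : Representation ℂ M U)

/-- Functions transforming on the left by `τ`. -/
def indSpace : Submodule ℂ (E → U) where
  carrier := {f | ∀ (m : M) (x : E), f (m * x) = τ m (f x)}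
  zero_mem' := fun m x => (map_zero _).symm
  add_mem' := fun {f g} hf hg m x => by
    show f (m * x) + g (m * x) = _
    rw [hf, hg]; exact (map_add _ _ _).symm
  smul_mem' := fun c f hf m x => by
    show c • f (m * x) = _
    rw [hf]; exact (map_smul _ _ _).symm

/-- Right translation. -/
def indRep : Representation ℂ E (indSpace M τ) where
  toFun e :=
    { toFun := fun f => ⟨fun x => f.1 (x * e), fun m x => by
        show f.1 (m * x * e) = _
        rw [mul_assoc]; exact f.2 m _⟩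
      map_add' := fun f g => rfl
      map_smul' := fun c f => rfl }
  map_one' := LinearMap.ext fun f => Subtype.ext (funext fun x => congrArg f.1 (mul_one x))
  map_mul' := fun a b => LinearMap.ext fun f => Subtype.ext (funext fun x =>
    congrArg f.1 (mul_assoc x a b).symm)

theorem indRep_apply (e : E) (f : indSpace M τ) (x : E) : (indRep M τ e f).1 x = f.1 (x * e) := rfl

/-- The induced space as all functions on the cosets. -/
def indEquiv [M.Normal] : indSpace M τ ≃ₗ[ℂ] (E ⧸ M → U) where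
  toFun f q := f.1 q.out
  map_add' f g := rfl
  map_smul' c f := rfl
  invFun g := ⟨fun x => τ ⟨x * (QuotientGroup.mk x : E ⧸ M).out⁻¹, (QuotientGroup.eq_one_iff _).1 (by
      rw [QuotientGroup.mk_mul, QuotientGroup.mk_inv, QuotientGroup.out_eq', mul_inv_cancel])⟩
      (g (QuotientGroup.mk x)), fun m x => by
    have h : (QuotientGroup.mk (m.1 * x) : E ⧸ M) = QuotientGroup.mk x := by
      rw [QuotientGroup.mk_mul, (QuotientGroup.eq_one_iff _).2 m.2, one_mul]
    dsimp only
    rw [← Module.End.mul_apply, ← map_mul]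
    congr 1
    · congr 1
      refine Subtype.ext ?_
      show m.1 * x * _ = m.1 * (x * _)
      rw [h, mul_assoc]
    · rw [h]⟩
  left_inv f := by
    refine Subtype.ext (funext fun x => ?_)
    dsimp only
    rw [← f.2, inv_mul_cancel_right]
  right_inv g := by
    funext q
    dsimp only
    have h : (QuotientGroup.mk q.out : E ⧸ M) = q := QuotientGroup.out_eq' q
    simp only [h]
    rw [show (⟨q.out * q.out⁻¹, _⟩ : M) = 1 from Subtype.ext (mul_inv_cancel q.out), map_one]
    rfl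

theorem finrank_indSpace [Finite E] [M.Normal] [FiniteDimensional ℂ U] :
    Module.finrank ℂ (indSpace M τ) = M.index * Module.finrank ℂ U := by
  have := Fintype.ofFinite (E ⧸ M)
  rw [(indEquiv M τ).finrank_eq, Module.finrank_pi_fintype, Finset.sum_const, smul_eq_mul,
    Finset.card_univ, ← Nat.card_eq_fintype_card]
  rfl

theorem finiteDimensional_indSpace [Finite E] [M.Normal] [FiniteDimensional ℂ U] :
    FiniteDimensional ℂ (indSpace M τ) :=
  Module.Finite.equiv (indEquiv M τ).symm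

variable {S : Type v} [Group S] (φ : S →* MulAut E) (hM : ∀ s, ∀ e ∈ M, φ s e ∈ M)
  (σ : Representation ℂ S U)
  (hσ : ∀ (s : S) (m : M), σ s * τ m = τ ⟨φ s m, hM s m m.2⟩ * σ s)

/-- The action of `S` on the induced space. -/
def indSigma : Representation ℂ S (indSpace M τ) where
  toFun s :=
    { toFun := fun f => ⟨fun x => σ s (f.1 (φ s⁻¹ x)), fun m x => by
        show σ s (f.1 (φ s⁻¹ (m.1 * x))) = τ m (σ s (f.1 (φ s⁻¹ x)))
        rw [map_mul (φ s⁻¹), f.2 ⟨_, hM s⁻¹ m m.2⟩, ← Module.End.mul_apply, hσ,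
          Module.End.mul_apply]
        congr 2
        refine Subtype.ext ?_
        show φ s (φ s⁻¹ m.1) = m.1
        rw [← MulAut.mul_apply, ← map_mul, mul_inv_cancel, map_one, MulAut.one_apply]⟩
      map_add' := fun f g => Subtype.ext (funext fun x => map_add (σ s) _ _)
      map_smul' := fun c f => Subtype.ext (funext fun x => map_smul (σ s) _ _) }
  map_one' := LinearMap.ext fun f => Subtype.ext (funext fun x => by
    show σ 1 (f.1 (φ 1⁻¹ x)) = f.1 x
    rw [inv_one, map_one, map_one]; rfl)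
  map_mul' := fun s t => LinearMap.ext fun f => Subtype.ext (funext fun x => by
    show σ (s * t) (f.1 (φ (s * t)⁻¹ x)) = σ s (σ t (f.1 (φ t⁻¹ (φ s⁻¹ x))))
    rw [map_mul σ, mul_inv_rev, map_mul φ]; rfl)

theorem indSigma_compat (s : S) (e : E) :
    indSigma M τ φ hM σ hσ s * indRep M τ e = indRep M τ (φ s e) * indSigma M τ φ hM σ hσ s :=
  LinearMap.ext fun f => Subtype.ext (funext fun x => by
    show σ s (f.1 (φ s⁻¹ x * e)) = σ s (f.1 (φ s⁻¹ (x * φ s e)))
    rw [map_mul (φ s⁻¹) x, ← MulAut.mul_apply, ← map_mul, inv_mul_cancel, map_one, MulAut.one_apply])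

theorem indRep_z (z : E) [hs : IsSymp z] (hz : z ∈ M) (hτ : τ ⟨z, hz⟩ = -1) :
    indRep M τ z = -1 :=
  LinearMap.ext fun f => Subtype.ext (funext fun x => by
    show f.1 (x * z) = -f.1 x
    rw [← hs.central, f.2 ⟨z, hz⟩, hτ]; rfl)

end Ind

variable (z : E) [hs : IsSymp z]

instance pre_normal (W : Submodule (ZMod 2) (V z)) : (pre z W).Normal where
  conj_mem n hn g := by
    rw [mem_pre, mk_mul, mk_mul, mk_inv, add_comm (mk z g), add_assoc, add_neg_cancel, add_zero]
    exact hn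

/-- `W₀` is a complement of `⟨z⟩` in `pre W`. -/
structure Split (W : Submodule (ZMod 2) (V z)) (W₀ : Subgroup E) : Prop where
  le : W₀ ≤ pre z W
  z_not_mem : z ∉ W₀
  cover : ∀ e ∈ pre z W, e ∈ W₀ ∨ e * z ∈ W₀

theorem Split.eq_one {W : Submodule (ZMod 2) (V z)} {W₀ : Subgroup E} (h : Split z W W₀) {e : E}
    (he : e ∈ W₀) (h0 : DadeExt.mk z e = 0) : e = 1 := by
  rcases (mk_eq_zero z).1 h0 with h1 | h1
  · exact h1
  · exact absurd (h1 ▸ he) h.z_not_mem

theorem Split.card_eq [Finite E] {W : Submodule (ZMod 2) (V z)} {W₀ : Subgroup E} (h : Split z W W₀) :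
    Nat.card W₀ = Nat.card W := by
  refine Nat.card_eq_of_bijective (fun e => (⟨DadeExt.mk z e.1, h.le e.2⟩ : W)) ⟨fun a b hab => ?_, fun x => ?_⟩
  · have h1 : DadeExt.mk z a.1 = DadeExt.mk z b.1 := congrArg Subtype.val hab
    refine Subtype.ext (inv_mul_eq_one.1 (h.eq_one z (W₀.mul_mem (W₀.inv_mem a.2) b.2) ?_))
    rw [mk_mul, mk_inv, h1, neg_add_cancel]
  · obtain ⟨e, he⟩ := mk_surjective z x.1
    rcases h.cover e (by rw [mem_pre, he]; exact x.2) with h1 | h1
    · exact ⟨⟨e, h1⟩, Subtype.ext he⟩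
    · exact ⟨⟨e * z, h1⟩, Subtype.ext (by
        show DadeExt.mk z (e * z) = x.1
        rw [mk_mul, mk_z, add_zero, he])⟩

theorem index_pre [Finite E] (W : Submodule (ZMod 2) (V z)) :
    (pre z W).index * Nat.card W = Nat.card (V z) := by
  have h := (pre z W).index_mul_card
  rw [card_pre, card_eq z, mul_comm 2 (Nat.card W), ← mul_assoc, mul_comm 2] at h
  exact Nat.eq_of_mul_eq_mul_right two_pos h

/-- An elementary complement invariant under everything normalising `A`. -/
theorem exists_split [Finite E] {A : Subgroup (MulAut E)} (hA : Fpf z A)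
    (W : Submodule (ZMod 2) (V z)) (hW : W ≤ (B z).orthogonal W)
    (hWA : Inv z (A : Set (MulAut E)) W) :
    ∃ W₀ : Subgroup E, Split z W W₀ ∧
      ∀ α : MulAut E, (∀ x ∈ W, piV z α x ∈ W) → (∀ a ∈ A, α⁻¹ * a * α ∈ A) → ∀ e ∈ W₀, α e ∈ W₀ := by
  have := Fintype.ofFinite A
  let : CommGroup (pre z W) :=
    { (inferInstance : Group (pre z W)) with
      mul_comm := fun a b => Subtype.ext ((cc_eq_zero z).1 ((B_mk z a.1 b.1).symm.trans
        (hW b.2 _ a.2))) }
  classical
  let r : A →* MulAut (pre z W) := restrictHom (pre z W) A.subtype fun a => pre_inv z (hWA a a.2)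
  let N : pre z W →* pre z W :=
    { toFun := fun e => ∏ a : A, r a e
      map_one' := Finset.prod_eq_one fun a _ => map_one _
      map_mul' := fun a b => by
        rw [← Finset.prod_mul_distrib]
        exact Finset.prod_congr rfl fun c _ => map_mul _ _ _ }
  have hN : ∀ e, N e = ∏ a : A, r a e := fun e => rfl
  have hmk : ∀ (f : A → pre z W), mk z ((∏ a, f a : pre z W) : E) = ∑ a, mk z (f a : E) := by
    intro f
    induction (Finset.univ : Finset A) using Finset.induction_on with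
    | empty => simpa using mk_one z
    | insert a t ha ih => rw [Finset.prod_insert ha, Finset.sum_insert ha, ← ih]; exact mk_mul z _ _
  have hN01 : ∀ e, N e = 1 ∨ N e = zin z W := by
    intro e
    have h : mk z (N e : E) = 0 := by
      rw [hN, hmk, ← fpf_sum z hA (mk z e.1)]
      exact Finset.sum_congr rfl fun a _ => (piV_mk z _ _).symm
    exact ((mk_eq_zero z).1 h).imp (fun h => Subtype.ext h) fun h => Subtype.ext h
  have hNz : N (zin z W) = zin z W := by
    rw [hN, Finset.prod_congr rfl fun a _ => show r a (zin z W) = zin z W from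
      Subtype.ext (aut_fix z _), Finset.prod_const, Finset.card_univ, ← Nat.card_eq_fintype_card]
    obtain ⟨k, hk⟩ := hA.odd
    rw [hk, pow_succ, pow_mul, show zin z W ^ 2 = 1 from Subtype.ext (by
      show z ^ 2 = 1
      rw [sq, hs.z_mul]), one_pow, one_mul]
  refine ⟨N.ker.map (pre z W).subtype, ⟨Subgroup.map_subtype_le _, ?_, fun e he => ?_⟩, ?_⟩
  · rintro ⟨x, hx, hxe⟩
    have : x = zin z W := Subtype.ext hxe
    subst this
    rw [SetLike.mem_coe, MonoidHom.mem_ker, hNz] at hx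
    exact hs.ne_one (congrArg Subtype.val hx)
  · rcases hN01 ⟨e, he⟩ with h | h
    · exact Or.inl ⟨⟨e, he⟩, h, rfl⟩
    · refine Or.inr ⟨⟨e, he⟩ * zin z W, ?_, rfl⟩
      rw [SetLike.mem_coe, MonoidHom.mem_ker, map_mul, h, hNz]
      exact Subtype.ext hs.z_mul
  · rintro α hαW hαA e ⟨x, hx, rfl⟩
    refine ⟨⟨α x.1, pre_inv z hαW _ x.2⟩, ?_, rfl⟩
    rw [SetLike.mem_coe, MonoidHom.mem_ker] at hx ⊢
    let c : A ≃ A := Equiv.ofBijective (fun a => ⟨α⁻¹ * a.1 * α, hαA a a.2⟩)
      (Finite.injective_iff_bijective.1 fun a b h => Subtype.ext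
        (mul_left_cancel (mul_right_cancel (congrArg Subtype.val h))))
    let αr : pre z W →* pre z W :=
      { toFun := fun y => ⟨α y.1, pre_inv z hαW _ y.2⟩
        map_one' := Subtype.ext (map_one α)
        map_mul' := fun a b => Subtype.ext (map_mul α _ _) }
    show N (αr x) = 1
    rw [hN, Finset.prod_congr rfl fun a _ => show r a (αr x) = αr (r (c a) x) from Subtype.ext (by
      show (a : MulAut E) (α x.1) = α ((α⁻¹ * a.1 * α) x.1)
      rw [MulAut.mul_apply, MulAut.mul_apply]; exact (MulEquiv.apply_symm_apply α _).symm),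
      ← map_prod, Equiv.prod_comp c (fun a => r a x), ← hN, hx, map_one]

section Quot

variable {W : Submodule (ZMod 2) (V z)} {W₀ : Subgroup E}

theorem split_normal (h : Split z W W₀) :
    (W₀.subgroupOf (pre z ((B z).orthogonal W))).Normal where
  conj_mem n hn g := by
    rw [Subgroup.mem_subgroupOf] at hn ⊢
    have hc : g.1 * n.1 = n.1 * g.1 := (cc_eq_zero z).1 (by
      rw [← B_mk, B_symm]
      exact g.2 _ (h.le hn))
    show g.1 * n.1 * g.1⁻¹ ∈ W₀
    rw [hc, mul_inv_cancel_right]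
    exact hn

variable [hn : (W₀.subgroupOf (pre z ((B z).orthogonal W))).Normal]

/-- The quotient `C(W₀) / W₀`. -/
abbrev Mid (W : Submodule (ZMod 2) (V z)) (W₀ : Subgroup E) : Type u :=
  pre z ((B z).orthogonal W) ⧸ W₀.subgroupOf (pre z ((B z).orthogonal W))

/-- The projection to `C(W₀) / W₀`. -/
abbrev midMk (W : Submodule (ZMod 2) (V z)) (W₀ : Subgroup E)
    (e : pre z ((B z).orthogonal W)) : Mid z W W₀ := QuotientGroup.mk e

/-- The image of `z`. -/
abbrev zq (W : Submodule (ZMod 2) (V z)) (W₀ : Subgroup E) : Mid z W W₀ := midMk z W W₀ (zin z _)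

theorem isSymp_mid [Finite E] (h : Split z W W₀) : IsSymp (zq z W W₀) where
  ne_one hh := h.z_not_mem ((QuotientGroup.eq_one_iff (zin z ((B z).orthogonal W))).1 hh)
  z_mul := congrArg (midMk z W W₀) (Subtype.ext hs.z_mul : zin z ((B z).orthogonal W) * zin z _ = 1)
  central x := by
    induction x using QuotientGroup.induction_on with
    | H e => exact congrArg (midMk z W W₀) (Subtype.ext (hs.central e.1) : zin z _ * e = e * zin z _)
  comm x y := by
    induction x using QuotientGroup.induction_on with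
    | H a =>
      induction y using QuotientGroup.induction_on with
      | H b =>
        exact (hs.comm a.1 b.1).imp
          (fun h1 => congrArg (midMk z W W₀) (Subtype.ext h1 : a * b = b * a))
          (fun h1 => congrArg (midMk z W W₀) (Subtype.ext h1 : a * b = b * a * zin z _))
  sq x := by
    induction x using QuotientGroup.induction_on with
    | H a =>
      exact (hs.sq a.1).imp (fun h1 => congrArg (midMk z W W₀) (Subtype.ext h1 : a * a = 1))
        (fun h1 => congrArg (midMk z W W₀) (Subtype.ext h1 : a * a = zin z _))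
  centre x hx := by
    induction x using QuotientGroup.induction_on with
    | H a =>
      have ha : mk z a.1 ∈ W := by
        refine (LinearMap.BilinForm.orthogonal_orthogonal (B_nondeg z) (B_isRefl z) W).le ?_
        intro y hy
        obtain ⟨b, rfl⟩ := mk_surjective z y
        show B z (mk z b) (mk z a.1) = 0
        rw [B_mk]
        have h1 := QuotientGroup.eq.1 (hx (midMk z W W₀ ⟨b, hy⟩))
        have h2 : (a.1 * b)⁻¹ * (b * a.1) ∈ W₀ := h1
        rw [cc_spec z b a.1, ← mul_assoc, inv_mul_cancel, one_mul] at h2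
        exact zp_injective z ((h.eq_one z h2 (mk_zp z _)).trans (zp_zero z).symm)
      rcases h.cover a.1 ha with h1 | h1
      · exact Or.inl ((QuotientGroup.eq_one_iff a).2 h1)
      · refine Or.inr (QuotientGroup.eq.2 ?_)
        show a.1⁻¹ * z ∈ W₀
        have h2 := W₀.inv_mem h1
        rwa [mul_inv_rev, inv_eq_of_mul_eq_one_left hs.z_mul, hs.central] at h2

/-- The action on `C(W₀) / W₀`. -/
def midHom {S : Type v} [Group S] (f : S →* MulAut E)
    (h₁ : ∀ s, ∀ e ∈ pre z ((B z).orthogonal W), f s e ∈ pre z ((B z).orthogonal W))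
    (h₂ : ∀ s, ∀ e ∈ W₀, f s e ∈ W₀) : S →* MulAut (Mid z W W₀) where
  toFun s := QuotientGroup.congr _ _ (restrictHom _ f h₁ s) (by
    ext e
    refine Subgroup.mem_map_equiv.trans ?_
    rw [Subgroup.mem_subgroupOf, Subgroup.mem_subgroupOf]
    show f s⁻¹ e.1 ∈ W₀ ↔ e.1 ∈ W₀
    refine ⟨fun he => ?_, h₂ s⁻¹ _⟩
    have := h₂ s _ he
    rwa [← MulAut.mul_apply, ← map_mul, mul_inv_cancel, map_one, MulAut.one_apply] at this)
  map_one' := MulEquiv.ext fun x => by
    induction x using QuotientGroup.induction_on with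
    | H e =>
      exact congrArg (midMk z W W₀) (Subtype.ext (by
        show f 1 e.1 = e.1
        rw [map_one, MulAut.one_apply]) : restrictHom _ f h₁ 1 e = e)
  map_mul' := fun s t => MulEquiv.ext fun x => by
    induction x using QuotientGroup.induction_on with
    | H e =>
      exact congrArg (midMk z W W₀) (congrArg (fun g : MulAut _ => g e) (map_mul (restrictHom _ f h₁) s t))

theorem midHom_mk {S : Type v} [Group S] (f : S →* MulAut E)
    (h₁ : ∀ s, ∀ e ∈ pre z ((B z).orthogonal W), f s e ∈ pre z ((B z).orthogonal W))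
    (h₂ : ∀ s, ∀ e ∈ W₀, f s e ∈ W₀) (s : S) (e : pre z ((B z).orthogonal W)) :
    midHom z f h₁ h₂ s (midMk z W W₀ e) = midMk z W W₀ (restrictHom _ f h₁ s e) := rfl

theorem fpf_mid [Finite E] [IsSymp (zq z W W₀)] (h : Split z W W₀) {A : Subgroup (MulAut E)}
    (hA : Fpf z A)
    (h₁ : ∀ a : A, ∀ e ∈ pre z ((B z).orthogonal W), (a : MulAut E) e ∈ pre z ((B z).orthogonal W))
    (h₂ : ∀ a : A, ∀ e ∈ W₀, (a : MulAut E) e ∈ W₀) :
    Fpf (zq z W W₀) (midHom z A.subtype h₁ h₂).range := by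
  refine ⟨hA.odd.of_dvd_nat (Subgroup.card_range_dvd _), fun v hv => ?_⟩
  obtain ⟨x, rfl⟩ := mk_surjective (zq z W W₀) v
  induction x using QuotientGroup.induction_on with
  | H e =>
    have h1 : mk z e.1 ∈ W := fpf_mod z hA W _ fun a ha => by
      have h3 := hv _ ⟨⟨a, ha⟩, rfl⟩
      rw [piV_mk] at h3
      have h3' : mk (zq z W W₀) (midMk z W W₀ ⟨a e.1, h₁ ⟨a, ha⟩ e.1 e.2⟩) =
          mk (zq z W W₀) (midMk z W W₀ e) := h3
      obtain ⟨i, hi⟩ := (mk_eq_mk (zq z W W₀)).1 h3'
      have e1 : zp (zq z W W₀) i = midMk z W W₀ ⟨zp z i, by rw [mem_pre, mk_zp]; exact Submodule.zero_mem _⟩ := by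
        rcases zmod2_cases i with rfl | rfl
        · rw [zp_zero]
          exact (congrArg (midMk z W W₀) (Subtype.ext (zp_zero z))).symm
        · rw [zp_one]
          exact (congrArg (midMk z W W₀) (Subtype.ext (zp_one z))).symm
      rw [e1] at hi
      have h4' := QuotientGroup.eq.1 (hi.trans (QuotientGroup.mk_mul _ _ _).symm)
      have h4 : e.1⁻¹ * (a e.1 * zp z i) ∈ W₀ := h4'
      have h5 := h.le h4
      rw [mem_pre, mk_mul, mk_mul, mk_zp, add_zero, mk_inv, neg_add_eq_sub, ← piV_mk] at h5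
      exact h5
    rw [mk_eq_zero]
    rcases h.cover e.1 h1 with h2 | h2
    · exact Or.inl ((QuotientGroup.eq_one_iff e).2 h2)
    · refine Or.inr (QuotientGroup.eq.2 ?_)
      show e.1⁻¹ * z ∈ W₀
      have h3 := W₀.inv_mem h2
      rwa [mul_inv_rev, inv_eq_of_mul_eq_one_left hs.z_mul, hs.central] at h3

omit hn in
theorem card_mid [Finite E] (h : Split z W W₀) (hW : W ≤ (B z).orthogonal W) :
    Nat.card (Mid z W W₀) * Nat.card W = 2 * Nat.card ((B z).orthogonal W) := by
  rw [← card_pre, Subgroup.card_eq_card_quotient_mul_card_subgroup (W₀.subgroupOf _),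
    Nat.card_congr (Subgroup.subgroupOfEquivOfLe (h.le.trans fun e he => hW he)).toEquiv, h.card_eq]

theorem card_mid_lt [Finite E] (h : Split z W W₀) (hW : W ≤ (B z).orthogonal W) (h0 : W ≠ ⊥) :
    Nat.card (Mid z W W₀) < Nat.card E := by
  have h1 := card_mid z h hW
  have h2 : 1 < Nat.card W := by
    rw [Finite.one_lt_card_iff_nontrivial]
    exact Submodule.nontrivial_iff_ne_bot.2 h0
  have h3 : Nat.card ((B z).orthogonal W) ≤ Nat.card (V z) :=
    Nat.card_le_card_of_injective _ Subtype.val_injective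
  rw [card_eq z]
  have h4 : 0 < Nat.card (Mid z W W₀) := Nat.card_pos
  nlinarith

/-- **Totally isotropic subspaces.** -/
theorem ext_of_isotropic [Finite E] {S : Type v} [Group S] (φ : S →* MulAut E)
    [IsSymp (zq z W W₀)] (h : Split z W W₀) (hW : W ≤ (B z).orthogonal W)
    (h₁ : ∀ s, ∀ e ∈ pre z ((B z).orthogonal W), φ s e ∈ pre z ((B z).orthogonal W))
    (h₂ : ∀ s, ∀ e ∈ W₀, φ s e ∈ W₀)
    (e₁ : Ext (zq z W W₀) (midHom z φ h₁ h₂)) : Ext z φ := by
  obtain ⟨n, ρ, σ, hn', hz, hc⟩ := e₁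
  let q := QuotientGroup.mk' (W₀.subgroupOf (pre z ((B z).orthogonal W)))
  let τ : Representation ℂ (pre z ((B z).orthogonal W)) (Fin n → ℂ) := ρ.comp q
  have := finiteDimensional_indSpace (pre z ((B z).orthogonal W)) τ
  refine Ext.of_module z φ (indRep _ τ) (indSigma _ τ φ h₁ σ fun s m => hc s (midMk z W W₀ m)) ?_
    (indRep_z _ τ z (z_mem_pre z _) hz) (indSigma_compat _ τ φ h₁ σ _)
  rw [finrank_indSpace, Module.finrank_fin_fun]
  have a := card_mid z h hW
  have b := index_pre z ((B z).orthogonal W)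
  have c := card_mul_card_orthogonal z W
  have d := card_eq z
  rw [← hn'] at a
  have hpos : 0 < Nat.card ((B z).orthogonal W) := Nat.card_pos
  have hi : (pre z ((B z).orthogonal W)).index = Nat.card W :=
    Nat.eq_of_mul_eq_mul_right hpos (b.trans c.symm)
  rw [hi, d, ← c]
  linear_combination (Nat.card W) * a

end Quot

/-- The sign attached to an element of `ZMod 2`. -/
def sgn (i : ZMod 2) : ℂ := if i = 0 then 1 else -1

theorem sgn_add (i j : ZMod 2) : sgn (i + j) = sgn i * sgn j := by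
  rcases zmod2_cases i with rfl | rfl <;> rcases zmod2_cases j with rfl | rfl <;>
    simp [sgn, show (1 : ZMod 2) + 1 = 0 from rfl]

variable [Finite E]

set_option maxHeartbeats 1000000 in
/-- **A polarisation permuted by `S`**: the Fourier transform. -/
theorem ext_of_polarised {S : Type v} [Group S] (φ : S →* MulAut E) (M : Subgroup S)
    (hM : M.index = 2) (s₀ : S) (hs₀ : s₀ ∉ M) {W W' : Submodule (ZMod 2) (V z)} {W₀ W₀' : Subgroup E}
    (hc : IsCompl W W') (hW' : W' ≤ (B z).orthogonal W') (hW : W ≤ (B z).orthogonal W)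
    (h : Split z W W₀) (h' : Split z W' W₀')
    (hMW' : ∀ m : M, ∀ e ∈ W₀', φ m e ∈ W₀')
    (hsw' : ∀ e ∈ W₀', φ s₀ e ∈ W₀) (hsw : ∀ e ∈ W₀, φ s₀ e ∈ W₀') : Ext z φ := by
  classical
  have hn' := Subgroup.normal_of_index_eq_two hM
  have hinv : ∀ (s : S) (e : E), φ s⁻¹ (φ s e) = e := fun s e => by
    rw [← MulAut.mul_apply, ← map_mul, inv_mul_cancel, map_one, MulAut.one_apply]
  have hinv' : ∀ (s : S) (e : E), φ s (φ s⁻¹ e) = e := fun s e => by
    rw [← MulAut.mul_apply, ← map_mul, mul_inv_cancel, map_one, MulAut.one_apply]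
  have hss : s₀ * s₀ ∈ M := Subgroup.mul_self_mem_of_index_two hM s₀
  have hpre : ∀ m : M, ∀ e ∈ pre z W', φ m e ∈ pre z W' := by
    intro m e he
    rcases h'.cover e he with h1 | h1
    · exact h'.le (hMW' m _ h1)
    · have := h'.le (hMW' m _ h1)
      rw [mem_pre, map_mul, aut_fix z, mk_mul, mk_z, add_zero] at this
      exact this
  let lam : pre z W' → ℂ := fun e => if e.1 ∈ W₀' then 1 else -1
  have hlam : ∀ (a b : pre z W'), lam (a * b) = lam a * lam b := by
    intro a b
    show (if a.1 * b.1 ∈ W₀' then (1 : ℂ) else -1) =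
      (if a.1 ∈ W₀' then 1 else -1) * (if b.1 ∈ W₀' then 1 else -1)
    by_cases ha : a.1 ∈ W₀' <;> by_cases hb : b.1 ∈ W₀'
    · simp [ha, hb, W₀'.mul_mem ha hb]
    · simp [ha, hb, W₀'.mul_mem_cancel_left ha]
    · simp [ha, hb, W₀'.mul_mem_cancel_right hb]
    · have ha' := (h'.cover a.1 a.2).resolve_left ha
      have hb' := (h'.cover b.1 b.2).resolve_left hb
      have hab : a.1 * b.1 ∈ W₀' := by
        have := W₀'.mul_mem ha' hb'
        rwa [mul_assoc, ← mul_assoc z, hs.central b.1, mul_assoc b.1, hs.z_mul, mul_one] at this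
      simp [ha, hb, hab]
  let τ : Representation ℂ (pre z W') ℂ :=
    { toFun := fun e => lam e • 1
      map_one' := by simp [lam, W₀'.one_mem]
      map_mul' := fun a b => by rw [hlam, smul_mul_smul_comm, one_mul] }
  have hτ : ∀ (e : pre z W') (x : ℂ), τ e x = lam e * x := fun e x => rfl
  have := finiteDimensional_indSpace (pre z W') τ
  have htriv : ∀ (m : M) (e : pre z W'),
      (1 : Representation ℂ M ℂ) m * τ e = τ ⟨φ m e, hpre m e e.2⟩ * (1 : Representation ℂ M ℂ) m := by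
    intro m e
    have : lam ⟨φ m e, hpre m e e.2⟩ = lam e := by
      show (if φ m e.1 ∈ W₀' then (1 : ℂ) else -1) = _
      have e1 : φ m e.1 ∈ W₀' ↔ e.1 ∈ W₀' := ⟨fun h1 => by
        have := hMW' m⁻¹ _ h1
        rwa [Subgroup.coe_inv, hinv] at this, hMW' m _⟩
      simp only [e1]; rfl
    refine LinearMap.ext fun x => ?_
    show τ e x = τ ⟨φ m e, hpre m e e.2⟩ x
    rw [hτ, hτ, this]
  let σM := indSigma (pre z W') τ (φ.comp M.subtype) hpre 1 htriv
  have hlamz : ∀ i, lam ⟨zp z i, by rw [mem_pre, mk_zp]; exact W'.zero_mem⟩ = sgn i := by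
    intro i
    rcases zmod2_cases i with rfl | rfl
    · simp [lam, sgn, zp_zero, W₀'.one_mem]
    · simp [lam, sgn, zp_one, h'.z_not_mem]
  have hf0 : ∀ (f : indSpace (pre z W') τ) (w : E), w ∈ W₀' → ∀ x, f.1 (w * x) = f.1 x := by
    intro f w hw x
    have := f.2 ⟨w, h'.le hw⟩ x
    rw [hτ] at this
    rwa [show lam ⟨w, h'.le hw⟩ = 1 from if_pos hw, one_mul] at this
  have hfz : ∀ (f : indSpace (pre z W') τ) (i : ZMod 2) x, f.1 (zp z i * x) = sgn i * f.1 x := by
    intro f i x
    have := f.2 ⟨zp z i, by rw [mem_pre, mk_zp]; exact W'.zero_mem⟩ x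
    rwa [hτ, hlamz] at this
  have := Fintype.ofFinite W₀'
  let c : ℂ := ((Real.sqrt (Nat.card W₀') : ℝ) : ℂ)⁻¹
  have hc2 : c * c * (Nat.card W₀' : ℂ) = 1 := by
    have hp : (0 : ℝ) < Nat.card W₀' := by exact_mod_cast Nat.card_pos
    have h1 : ((Real.sqrt (Nat.card W₀') : ℝ) : ℂ) * ((Real.sqrt (Nat.card W₀') : ℝ) : ℂ) =
        (Nat.card W₀' : ℂ) := by
      rw [← Complex.ofReal_mul, Real.mul_self_sqrt hp.le]; simp
    rw [← mul_inv, h1, inv_mul_cancel₀]
    exact_mod_cast Nat.card_pos.ne'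
  have hmemT : ∀ f : indSpace (pre z W') τ,
      (fun x => c * ∑ b : W₀', f.1 (φ s₀⁻¹ (b.1 * x))) ∈ indSpace (pre z W') τ := by
    intro f m x
    show c * ∑ b : W₀', f.1 (φ s₀⁻¹ (b.1 * (m.1 * x))) = τ m (c * _)
    rw [hτ, mul_left_comm]
    congr 1
    by_cases hm : m.1 ∈ W₀'
    · rw [show lam m = 1 from if_pos hm, one_mul]
      exact Fintype.sum_equiv (Equiv.mulRight ⟨m.1, hm⟩) _ _ fun b =>
        congrArg (fun y => f.1 (φ s₀⁻¹ y)) (mul_assoc b.1 m.1 x).symm
    · have hm' := (h'.cover m.1 m.2).resolve_left hm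
      rw [show lam m = -1 from if_neg hm, neg_one_mul, ← Finset.sum_neg_distrib]
      refine Fintype.sum_equiv (Equiv.mulRight ⟨m.1 * z, hm'⟩) _ _ fun b => ?_
      have e1 : ((Equiv.mulRight (⟨m.1 * z, hm'⟩ : W₀') b : W₀') : E) * x =
          zp z 1 * (b.1 * (m.1 * x)) := by
        show b.1 * (m.1 * z) * x = _
        rw [zp_one, ← mul_assoc b.1 m.1 z, ← hs.central, mul_assoc, mul_assoc b.1]
      rw [e1, map_mul (φ s₀⁻¹) (zp z 1), aut_zp, hfz, show sgn 1 = -1 from if_neg one_ne_zero, neg_one_mul,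
        neg_neg]
  let T : Module.End ℂ (indSpace (pre z W') τ) :=
    { toFun := fun f => ⟨_, hmemT f⟩
      map_add' := fun f g => Subtype.ext (funext fun x => by
        show c * ∑ b : W₀', (f.1 _ + g.1 _) = c * _ + c * _
        rw [Finset.sum_add_distrib, mul_add])
      map_smul' := fun r f => Subtype.ext (funext fun x => by
        show c * ∑ b : W₀', r * f.1 _ = r * (c * _)
        rw [← Finset.mul_sum, mul_left_comm]) }
  have hT : ∀ f x, (T f).1 x = c * ∑ b : W₀', f.1 (φ s₀⁻¹ (b.1 * x)) := fun f x => rfl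
  have hσM : ∀ m f x, (σM m f).1 x = f.1 (φ (m⁻¹ : M) x) := fun m f x => rfl
  have hs2 : ∀ e ∈ W₀', φ (s₀ * s₀)⁻¹ e ∈ W₀' := hMW' ⟨_, M.inv_mem hss⟩
  have hs1 : ∀ e ∈ W₀', φ s₀⁻¹ e ∈ W₀ := by
    intro e he
    have h1 := hsw' _ (hs2 e he)
    rwa [← MulAut.mul_apply, ← map_mul, show s₀ * (s₀ * s₀)⁻¹ = s₀⁻¹ by group] at h1
  have hsum : ∀ b' ∈ W₀, b' ≠ 1 → ∑ a : W₀', sgn (cc z b' (φ (s₀ * s₀)⁻¹ a.1)) = 0 := by
    intro b' hb' hne
    obtain ⟨a₀, ha₀, h1⟩ : ∃ a₀ ∈ W₀', cc z b' (φ (s₀ * s₀)⁻¹ a₀) = 1 := by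
      by_contra hcon
      push Not at hcon
      apply hne
      refine h.eq_one z hb' (B_eq_zero_of_forall z fun y => ?_)
      obtain ⟨w, hw, w', hw', rfl⟩ := Submodule.mem_sup.1
        (hc.sup_eq_top.ge (Submodule.mem_top (x := y)))
      have h0 : B z (mk z b') w = 0 := by rw [B_symm]; exact hW (h.le hb') w hw
      rw [map_add, h0, zero_add]
      obtain ⟨e, rfl⟩ := mk_surjective z w'
      have key : ∀ d ∈ W₀', cc z b' d = 0 := by
        intro d hd
        have h2 := hcon (φ (s₀ * s₀) d) (hMW' ⟨_, hss⟩ _ hd)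
        rw [hinv] at h2
        exact (zmod2_cases _).resolve_right h2
      rw [B_mk]
      rcases h'.cover e hw' with h3 | h3
      · exact key _ h3
      · have := key _ h3
        rwa [cc_mul_right, cc_swap z z b', cc_z, add_zero] at this
    have h2 : ∀ a : W₀', sgn (cc z b' (φ (s₀ * s₀)⁻¹ ((Equiv.mulRight (⟨a₀, ha₀⟩ : W₀') a : W₀') : E))) =
        -sgn (cc z b' (φ (s₀ * s₀)⁻¹ a.1)) := fun a => by
      show sgn (cc z b' (φ (s₀ * s₀)⁻¹ (a.1 * a₀))) = _
      rw [map_mul (φ (s₀ * s₀)⁻¹), cc_mul_right, sgn_add, h1, show sgn 1 = -1 from if_neg one_ne_zero,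
        mul_neg_one]
    have h3 := Equiv.sum_comp (Equiv.mulRight (⟨a₀, ha₀⟩ : W₀'))
      (fun a => sgn (cc z b' (φ (s₀ * s₀)⁻¹ a.1)))
    rw [Finset.sum_congr rfl fun a _ => h2 a, Finset.sum_neg_distrib] at h3
    exact CharZero.neg_eq_self_iff.1 h3
  have hT2 : T * T = σM ⟨s₀ * s₀, hss⟩ :=
    LinearMap.ext fun f => Subtype.ext (funext fun x => by
      show (T (T f)).1 x = (σM ⟨s₀ * s₀, hss⟩ f).1 x
      rw [hσM, hT]
      simp only [hT]
      have step : ∀ a b : W₀', f.1 (φ s₀⁻¹ (b.1 * φ s₀⁻¹ (a.1 * x))) =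
          sgn (cc z (φ s₀⁻¹ b.1) (φ (s₀ * s₀)⁻¹ a.1)) *
            f.1 (φ s₀⁻¹ b.1 * φ (s₀ * s₀)⁻¹ x) := by
        intro a b
        have e1 : φ s₀⁻¹ (φ s₀⁻¹ (a.1 * x)) = φ (s₀ * s₀)⁻¹ a.1 * φ (s₀ * s₀)⁻¹ x := by
          rw [← MulAut.mul_apply, ← map_mul, ← mul_inv_rev, map_mul]
        rw [map_mul (φ s₀⁻¹) b.1, e1, ← mul_assoc, cc_spec z (φ s₀⁻¹ b.1), ← zp_comm, mul_assoc,
          hfz, mul_assoc, hf0 f _ (hs2 _ a.2)]
      rw [Finset.sum_congr rfl fun a _ => by
        rw [Finset.sum_congr rfl fun b _ => step a b], ← Finset.mul_sum, Finset.sum_comm,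
        Finset.sum_congr rfl fun b _ => (Finset.sum_mul _ _ _).symm, Finset.sum_eq_single (1 : W₀')]
      · have e2 : ∀ y : E, cc z 1 y = 0 := fun y => by rw [cc_eq_zero, one_mul, mul_one]
        simp only [Subgroup.coe_one, map_one, e2, show sgn 0 = 1 from if_pos rfl, Finset.sum_const,
          Finset.card_univ, nsmul_eq_mul, mul_one, one_mul, ← Nat.card_eq_fintype_card]
        rw [← mul_assoc c c, ← mul_assoc, hc2, one_mul]
        rfl
      · intro b _ hb
        rw [hsum _ (hs1 _ b.2) ?_, zero_mul]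
        intro h1
        refine hb (Subtype.ext ?_)
        simpa using congrArg (φ s₀) h1
      · intro h1; exact absurd (Finset.mem_univ _) h1)
  have hTc : ∀ m : M, T * σM m = σM ⟨s₀ * m * s₀⁻¹, hn'.conj_mem m m.2 s₀⟩ * T := fun m =>
    LinearMap.ext fun f => Subtype.ext (funext fun x => by
      let m' : M := ⟨s₀ * m * s₀⁻¹, hn'.conj_mem m m.2 s₀⟩
      show (T (σM m f)).1 x = (σM m' (T f)).1 x
      rw [hσM, hT, hT]
      congr 1
      let c' : W₀' ≃ W₀' :=
        { toFun := fun b => ⟨φ (m'⁻¹ : M) b.1, hMW' _ _ b.2⟩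
          invFun := fun b => ⟨φ m' b.1, hMW' _ _ b.2⟩
          left_inv := fun b => Subtype.ext (hinv' _ _)
          right_inv := fun b => Subtype.ext (hinv _ _) }
      refine Fintype.sum_equiv c' _ _ fun b => ?_
      rw [hσM]
      show f.1 _ = f.1 (φ s₀⁻¹ (φ (m'⁻¹ : M) b.1 * φ (m'⁻¹ : M) x))
      rw [← map_mul (φ ((m'⁻¹ : M) : S)), ← MulAut.mul_apply, ← MulAut.mul_apply, ← map_mul φ,
        ← map_mul φ]
      refine congrArg f.1 (congrArg (fun t => φ t (b.1 * x)) ?_)
      show (m.1)⁻¹ * s₀⁻¹ = s₀⁻¹ * (s₀ * m.1 * s₀⁻¹)⁻¹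
      group)
  obtain ⟨σ, hσ, hσ₀⟩ := exists_extend_index_two M hM hs₀ σM T hT2 hTc
  have key₀ : ∀ e : E, T * indRep (pre z W') τ e = indRep (pre z W') τ (φ s₀ e) * T := by
    intro e
    refine LinearMap.ext fun f => Subtype.ext (funext fun x => ?_)
    show (T (indRep (pre z W') τ e f)).1 x = (T f).1 (x * φ s₀ e)
    rw [hT, hT]
    congr 1
    refine Finset.sum_congr rfl fun b _ => ?_
    rw [indRep_apply, ← mul_assoc, map_mul (φ s₀⁻¹) (b.1 * x), hinv]
  refine Ext.of_module z φ (indRep (pre z W') τ) σ ?_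
    (indRep_z _ τ z (z_mem_pre z _) ?_) fun s e => ?_
  · rw [finrank_indSpace, Module.finrank_self, mul_one]
    have a := index_pre z W'
    have b : Nat.card W * Nat.card W' = Nat.card (V z) := by
      rw [← Nat.card_prod]; exact Nat.card_congr (Submodule.prodEquivOfIsCompl W W' hc).toEquiv
    have d : Nat.card W = Nat.card W' := by
      rw [← h.card_eq, ← h'.card_eq]
      exact Nat.card_congr
        { toFun := fun e => ⟨φ s₀ e.1, hsw _ e.2⟩
          invFun := fun e => ⟨φ s₀⁻¹ e.1, hs1 _ e.2⟩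
          left_inv := fun e => Subtype.ext (hinv _ _)
          right_inv := fun e => Subtype.ext (hinv' _ _) }
    have hp : 0 < Nat.card W' := Nat.card_pos
    have hi : (pre z W').index = Nat.card W := Nat.eq_of_mul_eq_mul_right hp (a.trans b.symm)
    rw [hi, card_eq z, ← b, d, sq]
  · refine LinearMap.ext fun x => ?_
    rw [hτ, show lam _ = -1 from if_neg h'.z_not_mem]
    simp
  · by_cases hsM : s ∈ M
    · rw [hσ ⟨s, hsM⟩]; exact indSigma_compat (pre z W') τ (φ.comp M.subtype) hpre 1 htriv ⟨s, hsM⟩ e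
    · have hm : s * s₀⁻¹ ∈ M := by
        rw [Subgroup.mul_mem_iff_of_index_two hM, inv_mem_iff]; exact iff_of_false hsM hs₀
      have e1 : σ s = σM ⟨_, hm⟩ * T := by
        rw [← hσ ⟨_, hm⟩, ← hσ₀, ← map_mul, inv_mul_cancel_right]
      rw [e1, mul_assoc, key₀, ← mul_assoc,
        indSigma_compat (pre z W') τ (φ.comp M.subtype) hpre 1 htriv, mul_assoc]
      congr 2
      show φ (s * s₀⁻¹) (φ s₀ e) = φ s e
      rw [← MulAut.mul_apply, ← map_mul, inv_mul_cancel_right]

end CfsgLib.DadeExt
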