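import Cfsg.Agent.Lib.DadeExt.Induced

/-!
# Lifting isometries commuting with a fixed-point-free odd group
-/

set_option autoImplicit false

noncomputable section

namespace CfsgLib.DadeExt

universe u

variable {E : Type u} [Group E] [Finite E] (z : E) [hs : IsSymp z]

/-- An isometry of the pairing commuting with `A` preserves the squaring map. -/
theorem qq_isometry {A : Subgroup (MulAut E)} (hA : Fpf z A) (v : Module.End (ZMod 2) (V z))
    (hB : ∀ x y, B z (v x) (v y) = B z x y) (hcomm : ∀ a ∈ A, v * piV z a = piV z a * v)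
    {a b : E} (hab : v (mk z a) = mk z b) : qq z b = qq z a := by
  have hq : ∀ e i, qq z (e * zp z i) = qq z e := by
    intro e i
    rw [qq_mul, cc_swap, (cc_eq_zero z).2 (zp_comm z i e), add_zero,
      qq_eq z (a := zp z i) (i := 0) (by rw [← zp_add, CharTwo.add_self_eq_zero]), add_zero]
  let Q : V z → ZMod 2 := fun x => qq z (Classical.choose (mk_surjective z x))
  have hQ : ∀ e, Q (mk z e) = qq z e := by
    intro e
    obtain ⟨i, hi⟩ := (mk_eq_mk z).1 (Classical.choose_spec (mk_surjective z (mk z e))).symm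
    show qq z _ = _
    rw [hi, hq]
  have hQadd : ∀ x y, Q (x + y) = Q x + Q y + B z x y := by
    intro x y
    obtain ⟨e, rfl⟩ := mk_surjective z x
    obtain ⟨f, rfl⟩ := mk_surjective z y
    rw [← mk_mul, hQ, hQ, hQ, B_mk, qq_mul]
  let l : V z →+ ZMod 2 := AddMonoidHom.mk' (fun x => Q (v x) + Q x) fun x y => by
    rw [map_add, hQadd, hQadd, hB]
    have := CharTwo.add_self_eq_zero (B z x y)
    linear_combination this
  have hinv : ∀ α : MulAut E, ∀ x, Q (piV z α x) = Q x := by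
    intro α x
    obtain ⟨e, rfl⟩ := mk_surjective z x
    rw [piV_mk, hQ, hQ]
    exact qq_eq z (by rw [← map_mul, qq_spec z e, aut_zp])
  have h0 : l = 0 := functional_eq_zero z hA l fun c hc x => by
    show Q (v (piV z c x)) + Q (piV z c x) = Q (v x) + Q x
    rw [← Module.End.mul_apply, hcomm c hc, Module.End.mul_apply, hinv, hinv]
  have h1 : Q (v (mk z a)) + Q (mk z a) = 0 := DFunLike.congr_fun h0 (mk z a)
  rw [hab, hQ, hQ] at h1
  exact CharTwo.add_eq_zero.1 h1

/-- An automorphism trivial on `V` commuting with `A` is trivial. -/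
theorem eq_of_piV_eq {A : Subgroup (MulAut E)} (hA : Fpf z A) {α β : MulAut E}
    (hα : ∀ a ∈ A, Commute α a) (hβ : ∀ a ∈ A, Commute β a) (h : piV z α = piV z β) : α = β := by
  suffices hk : ∀ γ : MulAut E, (∀ a ∈ A, Commute γ a) → piV z γ = 1 → γ = 1 by
    refine (inv_mul_eq_one.1 (hk (β⁻¹ * α) (fun a ha => ((hβ a ha).inv_left).mul_left (hα a ha)) ?_)).symm
    rw [map_mul, h, ← map_mul, inv_mul_cancel, map_one]
  intro γ hγ h1
  have hd : ∀ e, ∃ i, γ e = e * zp z i := fun e => (mk_eq_mk z).1 (by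
    rw [← piV_mk, h1, Module.End.one_apply])
  choose d hd using hd
  have hdd : ∀ e i, γ e = e * zp z i → d e = i := fun e i hi =>
    zp_injective z (mul_left_cancel ((hd e).symm.trans hi))
  have hdmul : ∀ a b, d (a * b) = d a + d b := fun a b => hdd _ _ (by
    rw [map_mul, hd, hd, zp_add, mul_assoc, ← mul_assoc (zp z (d a)), zp_comm z (d a) b]; group)
  have hdz : ∀ i, d (zp z i) = 0 := fun i => hdd _ _ (by rw [aut_zp, zp_zero, mul_one])
  let D : V z → ZMod 2 := fun x => d (Classical.choose (mk_surjective z x))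
  have hD : ∀ e, D (mk z e) = d e := by
    intro e
    obtain ⟨i, hi⟩ := (mk_eq_mk z).1 (Classical.choose_spec (mk_surjective z (mk z e))).symm
    show d _ = _
    rw [hi, hdmul, hdz, add_zero]
  let l : V z →+ ZMod 2 := AddMonoidHom.mk' D fun x y => by
    obtain ⟨a, rfl⟩ := mk_surjective z x
    obtain ⟨b, rfl⟩ := mk_surjective z y
    rw [← mk_mul, hD, hD, hD, hdmul]
  have h0 : l = 0 := functional_eq_zero z hA l fun a ha x => by
    obtain ⟨e, rfl⟩ := mk_surjective z x
    show D (piV z a (mk z e)) = D (mk z e)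
    rw [piV_mk, hD, hD]
    refine hdd _ _ ?_
    have := congrArg (fun t : MulAut E => t e) (hγ a ha).eq
    simp only [MulAut.mul_apply] at this
    rw [this, hd, map_mul, aut_zp]
  refine MulEquiv.ext fun e => ?_
  have : d e = 0 := (hD e).symm.trans (DFunLike.congr_fun h0 (mk z e))
  rw [hd, this, zp_zero, mul_one]; rfl

set_option maxHeartbeats 800000 in
/-- Existence of lifts. -/
theorem exists_lift {A : Subgroup (MulAut E)} (hA : Fpf z A) (v : Module.End (ZMod 2) (V z))
    (hB : ∀ x y, B z (v x) (v y) = B z x y) (hcomm : ∀ a ∈ A, v * piV z a = piV z a * v) :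
    ∃ α : MulAut E, (∀ a ∈ A, Commute α a) ∧ piV z α = v := by
  classical
  have := Fintype.ofFinite A
  let P : Subgroup (E × E) :=
    { carrier := {x | v (mk z x.1) = mk z x.2}
      one_mem' := by simp [mk_one]
      mul_mem' := fun {x y} hx hy => by
        show v (mk z (x.1 * y.1)) = mk z (x.2 * y.2)
        rw [mk_mul, mk_mul, map_add, hx, hy]
      inv_mem' := fun {x} hx => by
        show v (mk z x.1⁻¹) = mk z x.2⁻¹
        rw [mk_inv, mk_inv, map_neg, hx] }
  have hzz : ∀ i j, (zp z i, zp z j) ∈ P := fun i j => by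
    show v (mk z (zp z i)) = mk z (zp z j)
    rw [mk_zp, mk_zp, map_zero]
  let Kd : Subgroup P :=
    { carrier := {x | ∃ i, x.1 = (zp z i, zp z i)}
      one_mem' := ⟨0, Prod.ext (zp_zero z).symm (zp_zero z).symm⟩
      mul_mem' := fun {x y} ⟨i, hi⟩ ⟨j, hj⟩ => ⟨i + j, by
        show x.1 * y.1 = _
        rw [hi, hj, Prod.mk_mul_mk, zp_add]⟩
      inv_mem' := fun {x} ⟨i, hi⟩ => ⟨i, by
        show x.1⁻¹ = _
        rw [hi, Prod.inv_mk]
        have : (zp z i)⁻¹ = zp z i := inv_eq_of_mul_eq_one_left (by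
          rw [← zp_add, CharTwo.add_self_eq_zero, zp_zero])
        rw [this]⟩ }
  have hKd : Kd.Normal := ⟨fun x ⟨i, hi⟩ g => ⟨i, by
    show g.1 * x.1 * g.1⁻¹ = _
    rw [hi]
    refine Prod.ext ?_ ?_
    · show g.1.1 * zp z i * g.1.1⁻¹ = zp z i
      rw [← zp_comm, mul_inv_cancel_right]
    · show g.1.2 * zp z i * g.1.2⁻¹ = zp z i
      rw [← zp_comm, mul_inv_cancel_right]⟩⟩
  let : CommGroup (P ⧸ Kd) :=
    { (inferInstance : Group (P ⧸ Kd)) with
      mul_comm := fun p q => by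
        induction p using QuotientGroup.induction_on with
        | H x =>
          induction q using QuotientGroup.induction_on with
          | H y =>
            refine QuotientGroup.eq.2 ⟨cc z y.1.1 x.1.1, ?_⟩
            have e2 : cc z y.1.2 x.1.2 = cc z y.1.1 x.1.1 := by
              rw [← B_mk, ← B_mk, ← y.2, ← x.2, hB]
            show (x.1 * y.1)⁻¹ * (y.1 * x.1) = _
            refine Prod.ext ?_ ?_
            · show (x.1.1 * y.1.1)⁻¹ * (y.1.1 * x.1.1) = _
              rw [cc_spec z y.1.1 x.1.1, ← mul_assoc, inv_mul_cancel, one_mul]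
            · show (x.1.2 * y.1.2)⁻¹ * (y.1.2 * x.1.2) = _
              rw [cc_spec z y.1.2 x.1.2, ← mul_assoc, inv_mul_cancel, one_mul, e2] }
  let act : A → P →* P := fun a =>
    { toFun := fun x => ⟨((a : MulAut E) x.1.1, (a : MulAut E) x.1.2), by
        show v (mk z ((a : MulAut E) x.1.1)) = mk z ((a : MulAut E) x.1.2)
        rw [← piV_mk, ← piV_mk, ← x.2, ← Module.End.mul_apply, ← Module.End.mul_apply, hcomm a a.2]⟩
      map_one' := Subtype.ext (Prod.ext (map_one _) (map_one _))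
      map_mul' := fun x y => Subtype.ext (Prod.ext (map_mul _ _ _) (map_mul _ _ _)) }
  let N : P →* P ⧸ Kd :=
    { toFun := fun x => ∏ a : A, (QuotientGroup.mk (act a x) : P ⧸ Kd)
      map_one' := Finset.prod_eq_one fun a _ => by simp
      map_mul' := fun x y => by
        rw [← Finset.prod_mul_distrib]
        exact Finset.prod_congr rfl fun a _ => by rw [map_mul]; rfl }
  let first : P ⧸ Kd →* Multiplicative (V z) :=
    QuotientGroup.lift Kd
      { toFun := fun x => Multiplicative.ofAdd (mk z x.1.1)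
        map_one' := rfl
        map_mul' := fun x y => rfl } (fun x ⟨i, hi⟩ => by
          show Multiplicative.ofAdd (mk z x.1.1) = 1
          rw [hi, mk_zp]; rfl)
  let t : ZMod 2 → P ⧸ Kd := fun i => QuotientGroup.mk ⟨(zp z i, zp z 0), hzz i 0⟩
  have hN01 : ∀ x, ∃ i, N x = t i := by
    intro x
    obtain ⟨p, hp⟩ := QuotientGroup.mk_surjective (N x)
    have h1 : Multiplicative.toAdd (first (N x)) = 0 := by
      show Multiplicative.toAdd (first (∏ a : A, (QuotientGroup.mk (act a x) : P ⧸ Kd))) = 0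
      rw [map_prod, toAdd_prod, ← fpf_sum z hA (mk z x.1.1)]
      exact Finset.sum_congr rfl fun a _ => (piV_mk z _ _).symm
    rw [← hp] at h1 ⊢
    have h2 : mk z p.1.1 = 0 := h1
    have h3 : mk z p.1.2 = 0 := by rw [← p.2, h2, map_zero]
    rcases (mk_eq_zero z).1 h2 with e1 | e1 <;> rcases (mk_eq_zero z).1 h3 with e2 | e2
    · exact ⟨0, congrArg _ (Subtype.ext (Prod.ext (by simp [e1, zp_zero]) (by simp [e2, zp_zero])))⟩
    · refine ⟨1, QuotientGroup.eq.2 ⟨1, Prod.ext ?_ ?_⟩⟩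
      · show p.1.1⁻¹ * zp z 1 = zp z 1
        rw [e1, inv_one, one_mul]
      · show p.1.2⁻¹ * zp z 0 = zp z 1
        rw [e2, zp_zero, mul_one, zp_one, inv_eq_of_mul_eq_one_left hs.z_mul]
    · exact ⟨1, congrArg _ (Subtype.ext (Prod.ext (by simp [e1, zp_one]) (by simp [e2, zp_zero])))⟩
    · refine ⟨0, QuotientGroup.eq.2 ⟨1, Prod.ext ?_ ?_⟩⟩
      · show p.1.1⁻¹ * zp z 0 = zp z 1
        rw [e1, zp_zero, mul_one, zp_one, inv_eq_of_mul_eq_one_left hs.z_mul]
      · show p.1.2⁻¹ * zp z 0 = zp z 1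
        rw [e2, zp_zero, mul_one, zp_one, inv_eq_of_mul_eq_one_left hs.z_mul]
  have hNt : N ⟨(zp z 1, zp z 0), hzz 1 0⟩ = t 1 := by
    have : ∀ a : A, (QuotientGroup.mk (act a ⟨(zp z 1, zp z 0), hzz 1 0⟩) : P ⧸ Kd) = t 1 :=
      fun a => congrArg _ (Subtype.ext (Prod.ext (aut_zp z (a : MulAut E) 1) (aut_zp z (a : MulAut E) 0)))
    show (∏ a : A, _) = _
    rw [Finset.prod_congr rfl fun a _ => this a, Finset.prod_const, Finset.card_univ,
      ← Nat.card_eq_fintype_card]
    obtain ⟨k, hk⟩ := hA.odd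
    have h2 : t 1 ^ 2 = 1 := (QuotientGroup.eq_one_iff _).2 ⟨0, Prod.ext (by
      show zp z 1 ^ 2 = zp z 0
      rw [sq, ← zp_add]; rfl) (by
      show zp z 0 ^ 2 = zp z 0
      rw [zp_zero, one_pow])⟩
    rw [hk, pow_succ, pow_mul, h2, one_pow, one_mul]
  have ht1 : t 1 ≠ 1 := by
    intro h
    obtain ⟨i, hi⟩ := (QuotientGroup.eq_one_iff _).1 h
    have a1 : zp z 1 = zp z i := congrArg Prod.fst hi
    have a2 : zp z 0 = zp z i := congrArg Prod.snd hi
    exact one_ne_zero (zp_injective z (a1.trans a2.symm))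
  let G₀ : Subgroup (E × E) := N.ker.map P.subtype
  have hker : ∀ {x : E × E}, x ∈ G₀ → ∃ hx : x ∈ P, N ⟨x, hx⟩ = 1 := by
    rintro x ⟨y, hy, rfl⟩; exact ⟨y.2, hy⟩
  have huniq : ∀ {e b b' : E}, (e, b) ∈ G₀ → (e, b') ∈ G₀ → b = b' := by
    intro e b b' h h'
    obtain ⟨hb, -⟩ := hker h
    obtain ⟨hb', -⟩ := hker h'
    obtain ⟨i, rfl⟩ := (mk_eq_mk z).1 (hb.symm.trans hb')
    rcases zmod2_cases i with rfl | rfl
    · rw [zp_zero, mul_one]
    · exfalso
      obtain ⟨hm, hm1⟩ := hker (G₀.mul_mem (G₀.inv_mem h) h')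
      have h3 : (⟨_, hm⟩ : P) = ⟨(zp z 0, zp z 1), hzz 0 1⟩ := Subtype.ext (Prod.ext (by
        show e⁻¹ * e = zp z 0
        rw [inv_mul_cancel, zp_zero]) (by
        show b⁻¹ * (b * zp z 1) = zp z 1
        rw [inv_mul_cancel_left]))
      rw [h3] at hm1
      have h4 : (⟨(zp z 1, zp z 0), hzz 1 0⟩ : P) * ⟨(zp z 0, zp z 1), hzz 0 1⟩ ∈ Kd := ⟨1, Prod.ext
        (by show zp z 1 * zp z 0 = zp z 1; rw [zp_zero, mul_one])
        (by show zp z 0 * zp z 1 = zp z 1; rw [zp_zero, one_mul])⟩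
      have h5 : N (⟨(zp z 1, zp z 0), hzz 1 0⟩ * ⟨(zp z 0, zp z 1), hzz 0 1⟩) = 1 := by
        refine Finset.prod_eq_one fun a _ => (QuotientGroup.eq_one_iff _).2 ?_
        obtain ⟨i, hi⟩ := h4
        exact ⟨i, Prod.ext
          (((a : MulAut E).congr_arg (congrArg Prod.fst hi)).trans (aut_zp z _ _))
          (((a : MulAut E).congr_arg (congrArg Prod.snd hi)).trans (aut_zp z _ _))⟩
      rw [map_mul, hm1, mul_one, hNt] at h5
      exact ht1 h5
  have hex : ∀ e, ∃ b, (e, b) ∈ G₀ := by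
    intro e
    obtain ⟨b, hb⟩ := mk_surjective z (v (mk z e))
    let x : P := ⟨(e, b), hb.symm⟩
    obtain ⟨i, hi⟩ := hN01 x
    rcases zmod2_cases i with rfl | rfl
    · exact ⟨b, x, hi.trans ((QuotientGroup.eq_one_iff _).2 ⟨0, rfl⟩), rfl⟩
    · let y : P := ⟨(zp z 1, zp z 0), hzz 1 0⟩
      let w : P := ⟨(zp z 1, zp z 1), hzz 1 1⟩
      refine ⟨b * zp z 1, x * y * w, ?_, Prod.ext ?_ ?_⟩
      · have hw : N w = 1 := Finset.prod_eq_one fun a _ => (QuotientGroup.eq_one_iff _).2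
          ⟨1, Prod.ext (aut_zp z (a : MulAut E) 1) (aut_zp z (a : MulAut E) 1)⟩
        rw [SetLike.mem_coe, MonoidHom.mem_ker, map_mul, map_mul, hw, mul_one, hi, hNt]
        exact (QuotientGroup.eq_one_iff _).2 ⟨0, Prod.ext (by
          show zp z 1 * zp z 1 = zp z 0
          rw [← zp_add]; rfl) (by
          show zp z 0 * zp z 0 = zp z 0
          rw [zp_zero, one_mul])⟩
      · show e * zp z 1 * zp z 1 = e
        rw [mul_assoc, ← zp_add, CharTwo.add_self_eq_zero, zp_zero, mul_one]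
      · show b * zp z 0 * zp z 1 = b * zp z 1
        rw [zp_zero, mul_one]
  choose g hg using hex
  let gh : E →* E := MonoidHom.mk' g fun a b => huniq (hg (a * b)) (G₀.mul_mem (hg a) (hg b))
  have hgv : ∀ e, v (mk z e) = mk z (g e) := fun e => (hker (hg e)).1
  have hginj : Function.Injective gh := by
    rw [injective_iff_map_eq_one]
    intro e he
    have h1 : v (mk z e) = 0 := by rw [hgv, show g e = 1 from he, mk_one]
    have h2 : mk z e = 0 := B_eq_zero_of_forall z fun y => by rw [← hB, h1, map_zero, LinearMap.zero_apply]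
    rcases (mk_eq_zero z).1 h2 with h3 | h3
    · exact h3
    · exfalso
      have h4 : (z, (1 : E)) ∈ G₀ := by
        have := hg e
        rwa [show g e = 1 from he, h3] at this
      obtain ⟨h5, h6⟩ := hker h4
      rw [show (⟨(z, 1), h5⟩ : P) = ⟨(zp z 1, zp z 0), hzz 1 0⟩ from
        Subtype.ext (Prod.ext (zp_one z).symm (zp_zero z).symm), hNt] at h6
      exact ht1 h6
  let α : MulAut E := MulEquiv.ofBijective gh (Finite.injective_iff_bijective.1 hginj)
  have hαg : ∀ e, α e = g e := fun e => rfl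
  refine ⟨α, fun a ha => MulEquiv.ext fun e => ?_, LinearMap.ext fun x => ?_⟩
  · show g (a e) = a (g e)
    refine huniq (hg (a e)) ?_
    obtain ⟨hx, hx1⟩ := hker (hg e)
    refine ⟨act ⟨a, ha⟩ ⟨_, hx⟩, ?_, rfl⟩
    rw [SetLike.mem_coe, MonoidHom.mem_ker]
    show (∏ b : A, (QuotientGroup.mk (act b (act ⟨a, ha⟩ ⟨_, hx⟩)) : P ⧸ Kd)) = 1
    rw [← hx1]
    exact Fintype.prod_equiv (Equiv.mulRight (⟨a, ha⟩ : A)) _ _ fun b => rfl
  · obtain ⟨e, rfl⟩ := mk_surjective z x
    rw [piV_mk, hgv, hαg]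

end CfsgLib.DadeExt
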