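import Cfsg.Agent.Lib.DadeExt.Algebra
import Cfsg.Agent.Lib.Characters.Extension
import Cfsg.Agent.Lib.Chars17.IrrBasic

/-!
# Dade's extension theorem for extraspecial 2-groups

The representation of `E` with `z ↦ -1` extends to every 2-group normalising an odd group
without fixed points on `E / ⟨z⟩`.
-/

set_option autoImplicit false
set_option linter.unusedSectionVars false

noncomputable section

namespace CfsgLib.DadeExt

universe u v

open scoped ComplexConjugate

variable {E : Type u} [Group E] [Finite E] (z : E) [hs : IsSymp z]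

/-- An irreducible representation non-trivial at `z`. -/
theorem irr_z {n : ℕ} (ρ : Representation ℂ E (Fin n → ℂ)) [hρ : ρ.IsIrreducible]
    (h : ρ.character z ≠ ρ.character 1) :
    ρ z = -1 ∧ 2 * n ^ 2 = Nat.card E ∧ ∀ e, e ≠ 1 → e ≠ z → ρ.character e = 0 := by
  classical
  have := Fintype.ofFinite E
  obtain ⟨c, hc⟩ := CfsgLib.CharScalar.center_scalar ρ
    (Subgroup.mem_center_iff.2 fun g => (hs.central g).symm : z ∈ Subgroup.center E)
  have hn := CfsgLib.CharExtension.pos_of_irreducible ρ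
  have hnn : (n : ℂ) ≠ 0 := by exact_mod_cast hn.ne'
  have hcz : ∀ e, ρ.character (z * e) = c * ρ.character e := fun e => by
    show LinearMap.trace ℂ _ (ρ (z * e)) = _
    rw [map_mul, hc, smul_mul_assoc, one_mul, map_smul, smul_eq_mul]; rfl
  have hc1 : c ≠ 1 := fun h1 => h (by
    have h2 := hcz 1
    rwa [mul_one, h1, one_mul] at h2)
  have hcc : c * c = 1 := by
    have h1 := hcz (z * 1)
    rw [hcz 1, ← mul_assoc z z 1, hs.z_mul, one_mul, Representation.char_one,
      Module.finrank_fin_fun, ← mul_assoc] at h1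
    exact (mul_eq_right₀ hnn).1 h1.symm
  have hcm : c = -1 := ((mul_self_eq_one_iff.1 hcc).resolve_left hc1)
  have hz : ρ z = -1 := by
    rw [hc, hcm]
    exact LinearMap.ext fun x => neg_one_smul ℂ x
  have hvan : ∀ e, e ≠ 1 → e ≠ z → ρ.character e = 0 := by
    intro e h1 h2
    obtain ⟨b, hb⟩ : ∃ b, b * e ≠ e * b := by
      by_contra hcon
      push Not at hcon
      rcases hs.centre e (fun b => (hcon b).symm) with h3 | h3
      exacts [h1 h3, h2 h3]
    have he : b * e * b⁻¹ = z * e := by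
      rw [(hs.comm b e).resolve_left hb, mul_assoc (e * b), hs.central b⁻¹, mul_assoc e,
        mul_inv_cancel_left, hs.central]
    have h3 := Representation.char_conj ρ e b
    rw [he, hcz, hcm] at h3
    exact CharZero.neg_eq_self_iff.1 (by rw [← neg_one_mul]; exact h3)
  refine ⟨hz, ?_, hvan⟩
  have hnorm : ∑ x : E, ρ.character x * conj (ρ.character x) = (Nat.card E : ℂ) := by
    have h := CfsgLib.Characters.classInner_irr_self (G := E) ⟨n, ρ, hρ, rfl⟩
    unfold Cfsg.classInner at h
    rwa [inv_mul_eq_iff_eq_mul₀ (Nat.cast_ne_zero.2 Nat.card_pos.ne'), mul_one] at h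
  rw [← Finset.sum_subset (Finset.subset_univ ({1, z} : Finset E)) fun e _ he => by
      rw [hvan e (fun h1 => he (by simp [h1])) (fun h2 => he (by simp [h2])), zero_mul],
    Finset.sum_pair hs.ne_one.symm] at hnorm
  have h1 := hcz 1
  rw [mul_one, hcm, Representation.char_one, Module.finrank_fin_fun] at h1
  rw [h1, Representation.char_one, Module.finrank_fin_fun] at hnorm
  simp only [map_mul, map_neg, map_one, map_natCast] at hnorm
  exact_mod_cast (show (2 : ℂ) * (n : ℂ) ^ 2 = (Nat.card E : ℂ) by rw [← hnorm]; ring)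

/-- Existence of an irreducible representation non-trivial at `z`. -/
theorem exists_rep : ∃ (n : ℕ) (ρ : Representation ℂ E (Fin n → ℂ)),
    ρ.IsIrreducible ∧ ρ.character z ≠ ρ.character 1 := by
  by_contra hcon
  push Not at hcon
  refine hs.ne_one (CfsgLib.Chars17.eq_one_of_forall_irr fun χ => ?_)
  obtain ⟨n, ρ, hρ, hχ⟩ := χ.2
  rw [← hχ]
  exact hcon n ρ hρ

/-- Automorphisms preserve the character. -/
theorem char_aut {n : ℕ} (ρ : Representation ℂ E (Fin n → ℂ)) [ρ.IsIrreducible]
    (h : ρ.character z ≠ ρ.character 1) (α : MulAut E) (e : E) :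
    ρ.character (α e) = ρ.character e := by
  obtain ⟨-, -, hvan⟩ := irr_z z ρ h
  by_cases h1 : e = 1
  · rw [h1, map_one]
  by_cases h2 : e = z
  · rw [h2, aut_fix z]
  rw [hvan e h1 h2, hvan]
  · exact fun h3 => h1 ((map_eq_one_iff α α.injective).1 h3)
  · exact fun h3 => h2 (α.injective (h3.trans (aut_fix z α).symm))

/-- **Cyclic image.** -/
theorem ext_of_cyclic {S : Type v} [Group S] (φ : S →* MulAut E) (α : MulAut E)
    (hα : ∀ s, φ s ∈ Subgroup.zpowers α) : Ext z φ := by
  obtain ⟨n, ρ, hρ, h⟩ := exists_rep z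
  obtain ⟨hz, hn, -⟩ := irr_z z ρ h
  obtain ⟨T, hT⟩ := CfsgLib.CharExtension.exists_unit_conj ρ (ρ.comp α.toMonoidHom)
    (funext fun e => char_aut z ρ h α e)
  have hT' : ∀ x, (T : Module.End ℂ (Fin n → ℂ)) * ρ x = ρ (α x) * T := hT
  have hTk : ∀ (k : ℕ) x, ((T ^ k : (Module.End ℂ (Fin n → ℂ))ˣ) : Module.End ℂ (Fin n → ℂ)) * ρ x =
      ρ ((α ^ k) x) * (T ^ k : (Module.End ℂ (Fin n → ℂ))ˣ) := by
    intro k
    induction k with
    | zero => intro x; simp
    | succ k ih =>
      intro x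
      rw [pow_succ, Units.val_mul, mul_assoc, hT', ← mul_assoc, ih, mul_assoc, pow_succ α,
        MulAut.mul_apply]
  have hord : 0 < orderOf α := orderOf_pos α
  obtain ⟨c, hc⟩ := CfsgLib.CharExtension.exists_scalar_of_commute ρ
    ((T ^ orderOf α : (Module.End ℂ (Fin n → ℂ))ˣ) : Module.End ℂ (Fin n → ℂ)) fun x => by
      rw [hTk, pow_orderOf_eq_one, MulAut.one_apply]
  have hc0 : c ≠ 0 := by
    intro h0
    have h1 : ((T ^ orderOf α : (Module.End ℂ (Fin n → ℂ))ˣ) : Module.End ℂ (Fin n → ℂ)) = 0 := by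
      rw [hc, h0, map_zero]
    have hnn : Nontrivial (Module.End ℂ (Fin n → ℂ)) := by
      have hp := CfsgLib.CharExtension.pos_of_irreducible ρ
      refine ⟨⟨0, 1, fun h01 => ?_⟩⟩
      have h2 := congrFun (LinearMap.congr_fun h01 (Pi.single ⟨0, hp⟩ (1 : ℂ))) ⟨0, hp⟩
      simp at h2
    exact (Units.ne_zero (T ^ orderOf α)) h1
  obtain ⟨d, hd⟩ := IsAlgClosed.exists_pow_nat_eq c⁻¹ hord
  have hd0 : d ≠ 0 := fun h0 => inv_ne_zero hc0 (by rw [← hd, h0, zero_pow hord.ne'])
  let D : (Module.End ℂ (Fin n → ℂ))ˣ :=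
    Units.map (algebraMap ℂ (Module.End ℂ (Fin n → ℂ))).toMonoidHom (Units.mk0 d hd0)
  have hDc : ∀ x : Module.End ℂ (Fin n → ℂ), Commute (D : Module.End ℂ (Fin n → ℂ)) x :=
    fun x => Algebra.commutes d x
  have hT₂ : orderOf (D * T) ∣ orderOf α := by
    rw [orderOf_dvd_iff_pow_eq_one,
      (show Commute D T from Units.ext (hDc T.1)).mul_pow]
    refine Units.ext ?_
    rw [Units.val_mul, hc, Units.val_pow_eq_pow_val]
    show algebraMap ℂ _ d ^ orderOf α * algebraMap ℂ _ c = 1
    rw [← map_pow, ← map_mul, hd, inv_mul_cancel₀ hc0, map_one]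
  let α' : Subgroup.zpowers α := ⟨α, Subgroup.mem_zpowers α⟩
  have hgen : ∀ x, x ∈ Subgroup.zpowers α' := by
    rintro ⟨x, hx⟩
    obtain ⟨k, rfl⟩ := Subgroup.mem_zpowers_iff.1 hx
    exact Subgroup.mem_zpowers_iff.2 ⟨k, Subtype.ext (by simp [α'])⟩
  let F : Subgroup.zpowers α →* (Module.End ℂ (Fin n → ℂ))ˣ :=
    monoidHomOfForallMemZpowers hgen (g' := D * T)
      (hT₂.trans (dvd_of_eq (Subgroup.orderOf_coe α')))
  have hF : F α' = D * T := monoidHomOfForallMemZpowers_apply_gen hgen _
  have hFk : ∀ (x : Subgroup.zpowers α) e,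
      (F x : Module.End ℂ (Fin n → ℂ)) * ρ e = ρ ((x : MulAut E) e) * F x := by
    intro x e
    obtain ⟨k, rfl⟩ := (mem_powers_iff_mem_zpowers.2 (hgen x) : x ∈ Submonoid.powers α')
    show (F (α' ^ k) : Module.End ℂ (Fin n → ℂ)) * ρ e = ρ ((α ^ k) e) * F (α' ^ k)
    rw [map_pow, hF, (show Commute D T from Units.ext (hDc T.1)).mul_pow, Units.val_mul, mul_assoc,
      hTk, ← mul_assoc, Units.val_pow_eq_pow_val, ((hDc _).pow_left k).eq, mul_assoc]
  exact ⟨n, ρ, (Units.coeHom _).comp (F.comp (φ.codRestrict _ hα)), hn, hz,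
    fun s e => hFk ⟨φ s, hα s⟩ e⟩

/-! ### The irreducible case -/

variable {z}

/-- Invariant subspaces under `φ` and `A`. -/
def Reducible {S : Type v} [Group S] (φ : S →* MulAut E) (A : Subgroup (MulAut E)) : Prop :=
  ∃ W : Submodule (ZMod 2) (V z), W ≠ ⊥ ∧ W ≠ ⊤ ∧ (∀ a ∈ A, ∀ x ∈ W, piV z a x ∈ W) ∧
    ∀ s, ∀ x ∈ W, piV z (φ s) x ∈ W

theorem exists_idem_power {M : Type*} [Monoid M] [Finite M] (x : M) :
    ∃ k, 0 < k ∧ x ^ k * x ^ k = x ^ k := by
  obtain ⟨i, j, hij, h⟩ := Finite.exists_ne_map_eq_of_infinite (fun k : ℕ => x ^ k)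
  wlog hlt : i < j generalizing i j with H
  · exact H j i (Ne.symm hij) h.symm (by omega)
  obtain ⟨t, rfl⟩ := Nat.exists_eq_add_of_lt hlt
  have hstep : ∀ r m, x ^ (i + m + (t + 1) * r) = x ^ (i + m) := by
    intro r
    induction r with
    | zero => simp
    | succ r ih =>
      intro m
      rw [show i + m + (t + 1) * (r + 1) = (i + t + 1) + (m + (t + 1) * r) by ring, pow_add,
        ← h, ← pow_add, ← add_assoc]
      exact ih m
  refine ⟨(t + 1) * (i + 1), by positivity, ?_⟩
  have hk : i ≤ (t + 1) * (i + 1) := by nlinarith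
  obtain ⟨m, hm⟩ := Nat.exists_eq_add_of_le hk
  rw [← pow_add, hm]
  conv_lhs => rw [show i + m + (i + m) = i + m + (t + 1) * (i + 1) by rw [← hm]]
  exact hstep _ m

/-- Conjugation by `φ s` on the centre. -/
theorem conj_mem_cenA {S : Type v} [Group S] {φ : S →* MulAut E} {A : Subgroup (MulAut E)}
    (hN : Normalises φ A) (s : S) {r : Module.End (ZMod 2) (V z)} (hr : r ∈ cenA z A) :
    piV z (φ s) * r * piV z (φ s)⁻¹ ∈ cenA z A :=
  cenA_conj (fun a ha => hN s a ha) (fun a ha => by
    have := hN s⁻¹ a ha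
    rwa [map_inv, inv_inv] at this) hr

theorem exists_index_two {S : Type v} [Group S] [Finite S] (hS : IsPGroup 2 S) (T : Subgroup S)
    (hT : T ≠ ⊤) : ∃ M : Subgroup S, M.index = 2 ∧ T ≤ M := by
  have : Fact (Nat.Prime 2) := ⟨Nat.prime_two⟩
  obtain ⟨n, hn⟩ := IsPGroup.iff_card.1 hS
  obtain ⟨t, ht⟩ := IsPGroup.iff_card.1 (hS.to_subgroup T)
  have htn : t < n := by
    by_contra hcon
    exact hT (Subgroup.eq_top_of_le_card _ (by rw [hn, ht]; exact Nat.pow_le_pow_right two_pos (not_lt.1 hcon)))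
  obtain ⟨K, hK, hTK⟩ := Sylow.exists_subgroup_card_pow_prime_le 2
    (show 2 ^ (n - 1) ∣ Nat.card S by rw [hn]; exact pow_dvd_pow 2 (by omega)) T ht (by omega)
  refine ⟨K, ?_, hTK⟩
  have h1 := K.index_mul_card
  rw [hK, hn, show n = (n - 1) + 1 by omega, pow_succ', Nat.add_sub_cancel] at h1
  exact Nat.eq_of_mul_eq_mul_right (by positivity) h1

set_option maxHeartbeats 1000000 in
/-- A non-trivial central idempotent gives a pair permuted by `S`. -/
theorem exists_swapped {S : Type v} [Group S] [Finite S] (hS : IsPGroup 2 S) {φ : S →* MulAut E}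
    {A : Subgroup (MulAut E)} (hN : Normalises φ A) (hirr : ¬ Reducible (z := z) φ A)
    {e₀ : Module.End (ZMod 2) (V z)} (he₀ : e₀ ∈ cenA z A) (hi : e₀ * e₀ = e₀) (h0 : e₀ ≠ 0)
    (h1 : e₀ ≠ 1) :
    ∃ (M : Subgroup S) (s₀ : S) (f : Module.End (ZMod 2) (V z)), M.index = 2 ∧ s₀ ∉ M ∧
      f * f = f ∧ f ∈ cenA z A ∧ (∀ m ∈ M, piV z (φ m) * f = f * piV z (φ m)) ∧
      piV z (φ s₀) * f * piV z (φ s₀)⁻¹ = 1 - f ∧ (HasAdj z f f ∨ HasAdj z f (1 - f)) := by
  classical
  have : Finite (Module.End (ZMod 2) (V z)) := Finite.of_injective (fun f => (f : V z → V z)) DFunLike.coe_injective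
  let cj : S → Module.End (ZMod 2) (V z) → Module.End (ZMod 2) (V z) :=
    fun s r => piV z (φ s) * r * piV z (φ s)⁻¹
  have hPinv : ∀ s t, piV z (φ s)⁻¹ * (piV z (φ s) * t) = t := fun s t => by
    rw [← mul_assoc, ← map_mul, inv_mul_cancel, map_one, one_mul]
  have cj_cj : ∀ s t r, cj s (cj t r) = cj (s * t) r := fun s t r => by
    simp only [cj, map_mul, mul_inv_rev, mul_assoc]
  have cj_mul : ∀ s r r', cj s r * cj s r' = cj s (r * r') := fun s r r' => by
    simp only [cj, mul_assoc, hPinv]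
  have cj_one : ∀ r, cj 1 r = r := fun r => by simp [cj]
  have cj_1 : ∀ s, cj s 1 = 1 := fun s => by
    simp only [cj, mul_one, ← map_mul, mul_inv_cancel, map_one]
  have cj_0 : ∀ s, cj s 0 = 0 := fun s => by simp [cj]
  have cj_sub : ∀ s r r', cj s (r - r') = cj s r - cj s r' := fun s r r' => by
    simp only [cj, mul_sub, sub_mul]
  have cj_add : ∀ s r r', cj s (r + r') = cj s r + cj s r' := fun s r r' => by
    simp only [cj, mul_add, add_mul]
  have cj_mem : ∀ s {r}, r ∈ cenA z A → cj s r ∈ cenA z A := fun s _ hr => conj_mem_cenA hN s hr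
  have hfix : ∀ g ∈ cenA z A, g * g = g → (∀ s, cj s g = g) → g = 0 ∨ g = 1 := by
    intro g hg hgg hgs
    by_contra hcon
    push Not at hcon
    refine hirr ⟨LinearMap.range g, fun hb => hcon.1 (LinearMap.range_eq_bot.1 hb), fun ht => hcon.2 ?_,
      fun a ha x hx => ?_, fun s x hx => ?_⟩
    · refine LinearMap.ext fun x => ?_
      obtain ⟨w, rfl⟩ := (ht.ge (Submodule.mem_top (x := x)) : x ∈ LinearMap.range g)
      rw [← Module.End.mul_apply, hgg, Module.End.one_apply]
    · obtain ⟨w, rfl⟩ := hx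
      exact ⟨piV z a w, (LinearMap.congr_fun ((mem_cenA.1 hg).2 a ha) w).symm⟩
    · obtain ⟨w, rfl⟩ := hx
      refine ⟨piV z (φ s) w, ?_⟩
      conv_lhs => rw [← hgs s]
      show piV z (φ s) (g (piV z (φ s)⁻¹ (piV z (φ s) w))) = _
      rw [piV_inv_apply]
  obtain ⟨e, ⟨he, hee, he0, hle⟩, hmin⟩ := Set.exists_min_image
    {r : Module.End (ZMod 2) (V z) | r ∈ cenA z A ∧ r * r = r ∧ r ≠ 0 ∧ r * e₀ = r}
    (fun r => Nat.card (LinearMap.range r)) (Set.toFinite _) ⟨e₀, he₀, hi, h0, hi⟩
  have hatom : ∀ g ∈ cenA z A, g * g = g → g * e = g → g = 0 ∨ g = e := by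
    intro g hg hgg hge
    refine or_iff_not_imp_left.2 fun hg0 => ?_
    have hge0 : g * e₀ = g := by rw [← hge, mul_assoc, hle]
    have hle' : LinearMap.range g ≤ LinearMap.range e := by
      rintro x ⟨w, rfl⟩
      refine ⟨g w, ?_⟩
      rw [← Module.End.mul_apply, cenA_comm he hg, hge]
    have heq : LinearMap.range g = LinearMap.range e := by
      refine SetLike.coe_injective (Set.eq_of_subset_of_ncard_le hle' ?_ (Set.toFinite _))
      rw [← Nat.card_coe_set_eq, ← Nat.card_coe_set_eq]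
      exact hmin g ⟨hg, hgg, hg0, hge0⟩
    refine LinearMap.ext fun x => ?_
    obtain ⟨w, hw⟩ := (heq.ge (LinearMap.mem_range_self e x) : e x ∈ LinearMap.range g)
    conv_lhs => rw [← hge, Module.End.mul_apply, ← hw, ← Module.End.mul_apply, hgg]
    exact hw
  let T : Subgroup S :=
    { carrier := {s | cj s e = e}
      one_mem' := cj_one e
      mul_mem' := fun {a b} ha hb => (cj_cj a b e).symm.trans ((congrArg (cj a) hb).trans ha)
      inv_mem' := fun {a} ha => by
        show cj a⁻¹ e = e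
        conv_lhs => rw [← (ha : cj a e = e)]
        rw [cj_cj, inv_mul_cancel, cj_one] }
  have hT : T ≠ ⊤ := by
    intro ht
    have hall : ∀ s, cj s e = e := fun s => (ht.ge (Subgroup.mem_top s) : s ∈ T)
    rcases hfix e he hee hall with h | h
    · exact he0 h
    · exact h1 (by rw [← one_mul e₀, ← h, hle])
  obtain ⟨M, hM, hTM⟩ := exists_index_two hS T hT
  have hMn := Subgroup.normal_of_index_eq_two hM
  obtain ⟨s₀, hs₀⟩ : ∃ s, s ∉ M := by
    by_contra hcon
    push Not at hcon
    rw [(Subgroup.eq_top_iff' M).2 hcon, Subgroup.index_top] at hM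
    omega
  let inst : CommRing (cenA z A) :=
    { (inferInstance : Ring (cenA z A)) with
      mul_comm := fun a b => Subtype.ext (cenA_comm a.2 b.2) }
  have := Fintype.ofFinite M
  let t : M → cenA z A := fun m => ⟨cj m e, cj_mem _ he⟩
  have ht : ∀ m, t m * t m = t m := fun m => Subtype.ext (by
    show cj m e * cj m e = cj m e
    rw [cj_mul, hee])
  let p : cenA z A := ∏ m : M, (1 - t m)
  have hp : p * p = p := by
    rw [← Finset.prod_mul_distrib]
    exact Finset.prod_congr rfl fun m _ => by linear_combination ht m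
  let f : Module.End (ZMod 2) (V z) := (1 - p : cenA z A)
  have hf : f * f = f := congrArg Subtype.val (by linear_combination hp : (1 - p) * (1 - p) = 1 - p)
  have hfm : f ∈ cenA z A := (1 - p : cenA z A).2
  have hef : ∀ m, (t m : cenA z A) * (1 - p) = t m := fun m => by
    have : t m * p = 0 := by
      rw [show p = (1 - t m) * ∏ x ∈ Finset.univ.erase m, (1 - t x) from
        (Finset.mul_prod_erase _ _ (Finset.mem_univ m)).symm, ← mul_assoc, mul_sub, mul_one, ht,
        sub_self, zero_mul]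
    linear_combination -this
  have hzero : ∀ g ∈ cenA z A, (∀ m : M, cj m e * g = 0) → f * g = 0 := by
    intro g hg h
    have h' : ∀ s : Finset M, (∏ m ∈ s, (1 - t m)) * (⟨g, hg⟩ : cenA z A) = ⟨g, hg⟩ := by
      intro s
      induction s using Finset.induction_on with
      | empty => rw [Finset.prod_empty, one_mul]
      | insert a s ha ih =>
        rw [Finset.prod_insert ha, mul_assoc, ih, sub_mul, one_mul,
          show t a * ⟨g, hg⟩ = 0 from Subtype.ext (h a), sub_zero]
    exact congrArg Subtype.val (show (1 - p) * (⟨g, hg⟩ : cenA z A) = 0 by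
      rw [sub_mul, one_mul, h' Finset.univ, sub_self])
  -- transport of products
  let ch : S → (cenA z A →* cenA z A) := fun s =>
    { toFun := fun r => ⟨cj s r.1, cj_mem s r.2⟩
      map_one' := Subtype.ext (cj_1 s)
      map_mul' := fun a b => Subtype.ext (cj_mul s a.1 b.1).symm }
  have hMf : ∀ m : M, cj m f = f := by
    intro m
    have hp' : ch m p = p := by
      rw [map_prod]
      exact Fintype.prod_equiv (Equiv.mulLeft m) _ _ fun x => Subtype.ext (by
        show cj m (1 - cj x e) = 1 - cj (m * x : M) e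
        rw [cj_sub, cj_1, cj_cj]; rfl)
    show cj m (1 - p : cenA z A).1 = (1 - p : cenA z A).1
    have hp'' : cj m p.1 = p.1 := congrArg Subtype.val hp'
    show cj m (1 - p.1) = 1 - p.1
    rw [cj_sub, cj_1, hp'']
  have hMfix : ∀ s, s ∈ M → cj s f = f := fun s hsm => hMf ⟨s, hsm⟩
  have hout : ∀ {s : S}, s ∉ M → cj s f = cj s₀ f := by
    intro s hsM
    have hm : s₀⁻¹ * s ∈ M := by
      rw [Subgroup.mul_mem_iff_of_index_two hM, inv_mem_iff]; exact iff_of_false hs₀ hsM
    have := cj_cj s₀ (s₀⁻¹ * s) f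
    rw [mul_inv_cancel_left, hMfix _ hm] at this
    exact this.symm
  have hsf : ∀ m : M, cj m e * cj s₀ f = 0 := by
    intro m
    by_contra hne
    have hne' : ∃ x : M, cj m e * cj (s₀ * x) e ≠ 0 := by
      by_contra hcon
      push Not at hcon
      apply hne
      have hh : f * cj (s₀⁻¹ * m) e = 0 := hzero _ (cj_mem _ he) fun x => by
        have h2 := congrArg (cj s₀⁻¹) (hcon x)
        rw [← cj_mul, cj_cj, cj_cj, cj_0, inv_mul_cancel_left] at h2
        rw [cenA_comm (cj_mem _ he) (cj_mem _ he)]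
        exact h2
      have h2 := congrArg (cj s₀) hh
      rw [← cj_mul, cj_cj, cj_0, mul_inv_cancel_left] at h2
      rw [cenA_comm (cj_mem _ he) (cj_mem _ hfm)]
      exact h2
    obtain ⟨x, hx⟩ := hne'
    -- two translates of an atom with non-zero product coincide
    have hatom' : ∀ s g, g ∈ cenA z A → g * g = g → g * cj s e = g → g = 0 ∨ g = cj s e := by
      intro s g hg hgg hge
      rcases hatom (cj s⁻¹ g) (cj_mem _ hg) (by rw [cj_mul, hgg]) (by
        have h2 := congrArg (cj s⁻¹) hge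
        rwa [← cj_mul, cj_cj, inv_mul_cancel, cj_one] at h2) with h | h
      · left
        have h2 := congrArg (cj s) h
        rwa [cj_cj, mul_inv_cancel, cj_one, cj_0] at h2
      · right
        have h2 := congrArg (cj s) h
        rwa [cj_cj, mul_inv_cancel, cj_one] at h2
    have hgi : (cj m e * cj (s₀ * x) e) * (cj m e * cj (s₀ * x) e) = cj m e * cj (s₀ * x) e := by
      rw [mul_assoc, ← mul_assoc (cj (s₀ * x) e), cenA_comm (cj_mem _ he) (cj_mem (m : S) he),
        mul_assoc (cj m e), ← mul_assoc (cj m e), cj_mul, cj_mul, hee]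
    have hgm := mul_mem (cj_mem (m : S) he) (cj_mem (s₀ * x) he)
    have e1 : cj m e * cj (s₀ * x) e = cj (s₀ * x) e := (hatom' _ _ hgm hgi (by
      rw [mul_assoc, cj_mul, hee])).resolve_left hx
    have e2 : cj m e * cj (s₀ * x) e = cj m e := (hatom' _ _ hgm hgi (by
      rw [cenA_comm (cj_mem (m : S) he) (cj_mem _ he), mul_assoc, cj_mul, hee])).resolve_left hx
    have e3 : cj ((m : S)⁻¹ * (s₀ * x)) e = e := by
      rw [← cj_cj, ← e1, e2, cj_cj, inv_mul_cancel, cj_one]
    have h4 := hTM e3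
    rw [← mul_assoc, Subgroup.mul_mem_iff_of_index_two hM,
      Subgroup.mul_mem_iff_of_index_two hM] at h4
    exact hs₀ ((h4.2 x.2).1 (M.inv_mem m.2))
  have horth : f * cj s₀ f = 0 := hzero _ (cj_mem _ hfm) hsf
  have hfe : e * f = e := by
    have h2 := congrArg Subtype.val (hef 1)
    show e * (1 - p : cenA z A).1 = e
    have h3 : cj ((1 : M) : S) e = e := cj_one e
    have h4 : cj ((1 : M) : S) e * (1 - p : cenA z A).1 = cj ((1 : M) : S) e := h2
    rwa [h3] at h4
  have hsum : f + cj s₀ f = 1 := by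
    refine ((hfix _ (add_mem hfm (cj_mem _ hfm)) ?_ ?_).resolve_left ?_)
    · rw [add_mul, mul_add, mul_add, hf, horth, cenA_comm (cj_mem _ hfm) hfm, horth, cj_mul, hf,
        add_zero, zero_add]
    · intro s
      rw [cj_add, cj_cj]
      by_cases hsM : s ∈ M
      · have h5 : s * s₀ ∉ M := by
          rw [Subgroup.mul_mem_iff_of_index_two hM]; simp [hsM, hs₀]
        rw [hMfix s hsM, hout h5]
      · have h5 : s * s₀ ∈ M := by
          rw [Subgroup.mul_mem_iff_of_index_two hM]; exact iff_of_false hsM hs₀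
        rw [hout hsM, hMfix _ h5, add_comm]
    · intro h
      have h2 := congrArg (fun r => r * f) h
      simp only [add_mul, hf, zero_mul, cenA_comm (cj_mem s₀ hfm) hfm, horth, add_zero] at h2
      exact he0 (by rw [← hfe, h2, mul_zero])
  have hs₀f : cj s₀ f = 1 - f := eq_sub_of_add_eq' hsum
  refine ⟨M, s₀, f, hM, hs₀, hf, hfm, fun m hm => ?_, hs₀f, ?_⟩
  · calc piV z (φ m) * f = cj m f * piV z (φ m) := by
          simp only [cj, mul_assoc, ← map_mul, inv_mul_cancel, map_one, mul_one]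
      _ = f * piV z (φ m) := by rw [hMfix m hm]
  obtain ⟨f', hf', hadj⟩ := exists_adj_cenA A hfm
  have hconj : ∀ s, HasAdj z (cj s f) (cj s f') := fun s => hadj.conj z (φ s)
  have hMf' : ∀ m, m ∈ M → cj m f' = f' := fun m hm =>
    ((hMfix m hm ▸ hconj m : HasAdj z f (cj m f'))).unique z hadj
  have hff' : f' * f' = f' := by
    have h2 := hadj.mul z hadj
    rw [hf] at h2
    exact h2.unique z hadj
  let g := f * f'
  have hg : g ∈ cenA z A := mul_mem hfm hf'
  have hgg : g * g = g := by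
    show f * f' * (f * f') = f * f'
    rw [mul_assoc, ← mul_assoc f' f, cenA_comm hf' hfm, mul_assoc f f', hff', ← mul_assoc, hf]
  have hgadj : HasAdj z g g := by
    have h2 := hadj.mul z (hadj.symm z)
    exact h2
  have hgM : ∀ m, m ∈ M → cj m g = g := fun m hm => by
    show cj m (f * f') = f * f'
    rw [← cj_mul, hMfix m hm, hMf' m hm]
  have hge' : e * g = 0 ∨ e * g = e := by
    refine hatom _ (mul_mem he hg) ?_ ?_
    · rw [mul_assoc, ← mul_assoc g, cenA_comm hg he, mul_assoc e g, hgg, ← mul_assoc, hee]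
    · rw [cenA_comm (mul_mem he hg) he, ← mul_assoc, hee]
  rcases hge' with hge | hge
  · -- `f f' = 0`
    right
    have hg0 : g = 0 := by
      have h2 : f * g = 0 := hzero g hg fun m => by rw [← hgM m m.2, cj_mul, hge, cj_0]
      rw [← mul_assoc, hf] at h2
      exact h2
    have h3 : cj s₀ f * cj s₀ f' = 0 := by rw [cj_mul]; show cj s₀ g = 0; rw [hg0, cj_0]
    have h4 : cj s₀ f' = 1 - f' := by
      refine (hconj s₀).unique z ?_
      rw [hs₀f]
      intro x y
      rw [LinearMap.sub_apply, map_sub, LinearMap.sub_apply, LinearMap.sub_apply, map_sub, hadj]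
      rfl
    rw [hs₀f, h4, sub_mul, mul_sub, mul_sub, one_mul, mul_one, one_mul] at h3
    have h5 : f * f' = 0 := hg0
    rw [h5, sub_zero] at h3
    have h6 : f' = 1 - f := by linear_combination (norm := abel) -h3
    exact h6 ▸ hadj
  · left
    have hgf : g = f := by
      have h2 : f * (g - 1) = 0 := hzero _ (sub_mem hg (one_mem _)) fun m => by
        rw [mul_sub, mul_one, ← hgM m m.2, cj_mul, hge, sub_self]
      rw [mul_sub, mul_one, ← mul_assoc, hf, sub_eq_zero] at h2
      exact h2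
    rw [← hgf]
    exact hgadj

/-- No idempotents: a cyclic replacement for `A`. -/
theorem exists_cyclic_replacement {S : Type v} [Group S] {φ : S →* MulAut E}
    {A : Subgroup (MulAut E)} (hA : Fpf z A) (hN : Normalises φ A) (hV : Nontrivial (V z))
    (hno : ∀ e ∈ cenA z A, e * e = e → e = 0 ∨ e = 1) :
    ∃ A' : Subgroup (MulAut E), (Nat.card A').Prime ∧ Fpf z A' ∧ Normalises φ A' := by
  classical
  let R := cenA z A
  let : CommRing R :=
    { (inferInstance : Ring R) with
      mul_comm := fun a b => Subtype.ext (cenA_comm a.2 b.2) }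
  have : Finite (Module.End (ZMod 2) (V z)) := Finite.of_injective (fun f => (f : V z → V z)) DFunLike.coe_injective
  have : Nontrivial R := ⟨⟨0, 1, fun h => by
    obtain ⟨x, hx⟩ := exists_ne (0 : V z)
    exact hx (LinearMap.congr_fun (congrArg Subtype.val h) x).symm⟩⟩
  have hred : ∀ (k : ℕ) (r : R), r ^ k = 0 → r = 0 := by
    intro k
    induction k using Nat.strongRecOn with
    | _ k ih =>
      intro r hr
      by_cases hk : k ≤ 1
      · rcases Nat.le_one_iff_eq_zero_or_eq_one.1 hk with rfl | rfl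
        · exact absurd hr (by simp)
        · simpa using hr
      · refine ih ((k + 1) / 2) (by omega) r ?_
        refine Subtype.ext (eq_zero_of_sq_eq_zero hA (r ^ ((k + 1) / 2)).2 ?_)
        exact congrArg Subtype.val (show r ^ ((k + 1) / 2) * r ^ ((k + 1) / 2) = 0 by
          rw [← pow_add, show (k + 1) / 2 + (k + 1) / 2 = k + ((k + 1) / 2 + (k + 1) / 2 - k) by omega,
            pow_add, hr, zero_mul])
  have hfield : ∀ r : R, r ≠ 0 → ∃ r' : R, r * r' = 1 := by
    intro r hr
    obtain ⟨k, hk, hkk⟩ := exists_idem_power r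
    rcases hno _ (r ^ k).2 (congrArg Subtype.val hkk) with h | h
    · exact absurd (hred k r (Subtype.ext h)) hr
    · refine ⟨r ^ (k - 1), ?_⟩
      rw [← pow_succ', Nat.sub_add_cancel hk]
      exact Subtype.ext h
  have : IsDomain R := by
    refine @NoZeroDivisors.to_isDomain R _ _ ⟨fun {a b} hab => ?_⟩
    by_cases ha : a = 0
    · exact Or.inl ha
    · obtain ⟨a', ha'⟩ := hfield a ha
      right
      calc b = a * a' * b := by rw [ha', one_mul]
        _ = 0 := by rw [mul_comm a a', mul_assoc, hab, mul_zero]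
  obtain ⟨r, hr, hrn⟩ := exists_not_selfadj hA hV
  obtain ⟨r', hr', hadj⟩ := exists_adj_cenA A hr
  have hne : r' ≠ r := fun h => hrn (h ▸ hadj)
  have hr0 : (⟨r, hr⟩ : R) ≠ 0 := by
    intro h
    have h' : r = 0 := congrArg Subtype.val h
    subst h'
    exact hne (hadj.unique z fun x y => by simp)
  obtain ⟨⟨w, hw⟩, hrw'⟩ := hfield _ hr0
  have hrw : r * w = 1 := congrArg Subtype.val hrw'
  obtain ⟨w', hw', hwadj⟩ := exists_adj_cenA A hw
  have hrw2 : r' * w' = 1 := by
    have h2 := hadj.mul z hwadj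
    rw [hrw] at h2
    rw [cenA_comm hr' hw']
    exact h2.unique z fun x y => rfl
  let u : R := ⟨r' * w, mul_mem hr' hw⟩
  let u' : R := ⟨r * w', mul_mem hr hw'⟩
  have hu : HasAdj z u.1 u'.1 := by
    show HasAdj z (r' * w) (r * w')
    rw [cenA_comm hr hw']
    exact (hadj.symm z).mul z hwadj
  have huu : u * u' = 1 := Subtype.ext (by
    show r' * w * (r * w') = 1
    rw [mul_assoc, ← mul_assoc w, cenA_comm hw hr, hrw, one_mul, hrw2])
  have hu1 : u ≠ 1 := by
    intro h
    apply hne
    have h' : r' * w = 1 := congrArg Subtype.val h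
    calc r' = r' * (r * w) := by rw [hrw, mul_one]
      _ = r * (r' * w) := by rw [← mul_assoc, cenA_comm hr' hr, mul_assoc]
      _ = r := by rw [h', mul_one]
  let uu : Rˣ := ⟨u, u', huu, by rw [mul_comm]; exact huu⟩
  have huu1 : uu ≠ 1 := fun h => hu1 (congrArg Units.val h)
  have hn1 : orderOf uu ≠ 1 := fun h => huu1 (orderOf_eq_one_iff.1 h)
  have hno2 : orderOf uu ≠ 0 := (orderOf_pos uu).ne'
  obtain ⟨q, hq, hqd⟩ := Nat.exists_prime_and_dvd hn1
  let vv : Rˣ := uu ^ (orderOf uu / q)
  have hvo : orderOf vv = q := orderOf_pow_orderOf_div hno2 hqd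
  let v : R := vv
  have hvq : v ^ q = 1 := by
    show (vv : R) ^ q = 1
    rw [← Units.val_pow_eq_pow_val, ← hvo, pow_orderOf_eq_one, Units.val_one]
  have hv1 : v ≠ 1 := by
    intro h
    have : vv = 1 := Units.ext h
    rw [this, orderOf_one] at hvo
    exact hq.one_lt.ne hvo
  have hq2 : q ≠ 2 := by
    rintro rfl
    apply hv1
    have h2 : (2 : R) = 0 := Subtype.ext (LinearMap.ext fun x => by
      show ((2 : Module.End (ZMod 2) (V z)) x) = 0
      rw [show (2 : Module.End (ZMod 2) (V z)) = 1 + 1 from one_add_one_eq_two.symm]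
      exact add_self z x)
    have h3 : (v - 1) * (v - 1) = 0 := by linear_combination hvq + (1 - v) * h2
    exact sub_eq_zero.1 (mul_self_eq_zero.1 h3)
  have hprim : IsPrimitiveRoot v q := IsPrimitiveRoot.iff_orderOf.2 (by
    show orderOf (vv : R) = q
    rw [orderOf_units, hvo])
  have hiso : ∀ k : ℕ, ∀ x y, B z (((v ^ k : R) : Module.End (ZMod 2) (V z)) x)
      (((v ^ k : R) : Module.End (ZMod 2) (V z)) y) = B z x y := by
    have hone : ∀ x y, B z (u.1 x) (u.1 y) = B z x y := by
      intro x y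
      rw [hu]
      have : u'.1 (u.1 y) = y := LinearMap.congr_fun (congrArg Subtype.val ((mul_comm u' u).trans huu)) y
      rw [this]
    have hpow : ∀ n : ℕ, ∀ x y, B z (((u ^ n : R) : Module.End (ZMod 2) (V z)) x)
        (((u ^ n : R) : Module.End (ZMod 2) (V z)) y) = B z x y := by
      intro n
      induction n with
      | zero => intro x y; rfl
      | succ n ih =>
        intro x y
        rw [pow_succ']
        exact (hone _ _).trans (ih x y)
    intro k
    have : v ^ k = u ^ (orderOf uu / q * k) := by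
      show (vv : R) ^ k = (uu : R) ^ _
      rw [← Units.val_pow_eq_pow_val, ← Units.val_pow_eq_pow_val, pow_mul]
    rw [this]
    exact hpow _
  let A' : Subgroup (MulAut E) :=
    { carrier := {α | (∀ a ∈ A, Commute α a) ∧ ∃ k : ℕ, piV z α = ((v ^ k : R) : Module.End (ZMod 2) (V z))}
      one_mem' := ⟨fun a _ => Commute.one_left a, 0, map_one _⟩
      mul_mem' := fun {α β} ⟨hα, i, hi⟩ ⟨hβ, j, hj⟩ => ⟨fun a ha => (hα a ha).mul_left (hβ a ha), i + j, by
        rw [map_mul, hi, hj, pow_add]; rfl⟩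
      inv_mem' := fun {α} ⟨hα, i, hi⟩ => ⟨fun a ha => (hα a ha).inv_left, i * (orderOf α - 1), by
        have e1 : α⁻¹ = α ^ (orderOf α - 1) := by
          rw [inv_eq_of_mul_eq_one_right]
          rw [← pow_succ', Nat.sub_add_cancel (orderOf_pos α), pow_orderOf_eq_one]
        rw [e1, map_pow, hi, ← SubmonoidClass.coe_pow, ← pow_mul]⟩ }
  have hcommv : ∀ k : ℕ, ∀ a ∈ A, ((v ^ k : R) : Module.End (ZMod 2) (V z)) * piV z a =
      piV z a * ((v ^ k : R) : Module.End (ZMod 2) (V z)) :=
    fun k a ha => ((mem_cenA.1 (v ^ k).2).2 a ha).symm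
  choose L hL1 hL2 using fun k : ℕ => exists_lift z hA _ (hiso k) (hcommv k)
  have hLm : ∀ k, L k ∈ A' := fun k => ⟨hL1 k, k, hL2 k⟩
  have hcard : Nat.card A' = q := by
    rw [← Nat.card_fin q]
    refine (Nat.card_eq_of_bijective (fun i : Fin q => (⟨L i, hLm i⟩ : A')) ⟨fun i j hij => ?_, fun α => ?_⟩).symm
    · have h2 : (v ^ (i : ℕ) : R) = v ^ (j : ℕ) := Subtype.ext (by
        rw [← hL2, ← hL2, show L i = L j from congrArg Subtype.val hij])
      exact Fin.ext (hprim.pow_inj i.2 j.2 h2)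
    · obtain ⟨α, hα, k, hk⟩ := α
      refine ⟨⟨k % q, Nat.mod_lt _ hq.pos⟩, Subtype.ext ?_⟩
      refine eq_of_piV_eq z hA (hL1 _) hα ?_
      rw [hL2, hk]
      congr 1
      exact (pow_eq_pow_mod k hvq).symm
  refine ⟨A', hcard ▸ hq, ⟨hcard ▸ hq.odd_of_ne_two hq2, fun x hx => ?_⟩, fun s α ⟨hα, k, hk⟩ => ?_⟩
  · obtain ⟨t, ht⟩ := hfield (v - 1) (sub_ne_zero.2 hv1)
    have h2 : (v - 1).1 x = 0 := by
      show v.1 x - x = 0
      have h3 := hx _ (hLm 1)
      rw [hL2, pow_one] at h3
      rw [h3, sub_self]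
    have h3 : ((v - 1) * t).1 x = x := by rw [ht]; rfl
    rw [mul_comm] at h3
    rw [← h3]
    show t.1 ((v - 1).1 x) = 0
    rw [h2, map_zero]
  · refine ⟨fun a ha => ?_, ?_⟩
    · have h2 : (φ s)⁻¹ * a * φ s ∈ A := by
        have := hN s⁻¹ a ha
        rwa [map_inv, inv_inv] at this
      have h3 := (hα _ h2).eq
      show φ s * α * (φ s)⁻¹ * a = a * (φ s * α * (φ s)⁻¹)
      calc φ s * α * (φ s)⁻¹ * a = φ s * (α * ((φ s)⁻¹ * a * φ s)) * (φ s)⁻¹ := by group
        _ = a * (φ s * α * (φ s)⁻¹) := by rw [h3]; group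
    · have hm : piV z (φ s) * v.1 * piV z (φ s)⁻¹ ∈ R := conj_mem_cenA hN s v.2
      have hpowc : ∀ n, (⟨_, hm⟩ : R) ^ n = ⟨_, conj_mem_cenA hN s (v ^ n).2⟩ := by
        intro n
        induction n with
        | zero =>
          refine Subtype.ext ?_
          show (1 : Module.End (ZMod 2) (V z)) = piV z (φ s) * 1 * piV z (φ s)⁻¹
          rw [mul_one, ← map_mul, mul_inv_cancel, map_one]
        | succ n ih =>
          rw [pow_succ, ih]
          refine Subtype.ext ?_
          show piV z (φ s) * (v ^ n).1 * piV z (φ s)⁻¹ * (piV z (φ s) * v.1 * piV z (φ s)⁻¹) =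
            piV z (φ s) * (v ^ (n + 1)).1 * piV z (φ s)⁻¹
          rw [pow_succ, MulMemClass.coe_mul]
          simp only [mul_assoc]
          rw [← mul_assoc (piV z (φ s)⁻¹) (piV z (φ s)), ← map_mul, inv_mul_cancel, map_one, one_mul]
      have : NeZero q := ⟨hq.ne_zero⟩
      obtain ⟨i, -, hi⟩ := hprim.eq_pow_of_pow_eq_one (ξ := (⟨_, hm⟩ : R)) (by
        rw [hpowc, ← Subtype.coe_inj]
        show piV z (φ s) * (v ^ q).1 * piV z (φ s)⁻¹ = 1
        rw [hvq, OneMemClass.coe_one, mul_one, ← map_mul, mul_inv_cancel, map_one])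
      refine ⟨i * k, ?_⟩
      rw [map_mul, map_mul, hk, pow_mul, hi, hpowc]

/-! ### Induction -/

set_option maxHeartbeats 1000000 in
theorem ext_main (N : ℕ) : ∀ (E : Type u) [Group E] [Finite E] (z : E) [IsSymp z] (S : Type v) [Group S]
    [Finite S] (_ : IsPGroup 2 S) (φ : S →* MulAut E) (A : Subgroup (MulAut E)),
    Nat.card E = N → Fpf z A → Normalises φ A → Ext z φ := by
  induction N using Nat.strongRecOn with
  | _ N ih =>
    intro E _ _ z _ S _ _ hS φ A hcard hA hN
    classical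
    rcases subsingleton_or_nontrivial (V z) with hV | hV
    · exact Ext.of_trivial z φ hV
    -- a smaller piece
    have hpre : ∀ (W : Submodule (ZMod 2) (V z)) [IsSymp (zin z W)], W ≠ ⊤ →
        Nat.card (pre z W) < N := by
      intro W _ hW
      rw [card_pre, ← hcard, card_eq z]
      exact Nat.mul_lt_mul_of_pos_left (lt_of_le_of_ne
        (Nat.card_le_card_of_injective _ Subtype.val_injective) fun h => hW (SetLike.coe_injective
          ((Set.eq_of_subset_of_ncard_le (Set.subset_univ _) (by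
            rw [Set.ncard_univ, ← Nat.card_coe_set_eq]; exact h.ge)).trans
            Submodule.top_coe.symm))) two_pos
    have piece : ∀ (W : Submodule (ZMod 2) (V z)) (_ : W ⊓ (B z).orthogonal W = ⊥) (_ : W ≠ ⊤)
        (A₁ : Subgroup (MulAut E)) (_ : Fpf z A₁)
        (_ : ∀ a ∈ A₁, ∀ x ∈ W, piV z a x ∈ W) (S₁ : Type v) [Group S₁] [Finite S₁]
        (_ : IsPGroup 2 S₁) (φ₁ : S₁ →* MulAut E) (_ : Normalises φ₁ A₁)
        (h : ∀ s, ∀ e ∈ pre z W, φ₁ s e ∈ pre z W),
        Ext (zin z W) (restrictHom (pre z W) φ₁ h) := by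
      intro W hW hWt A₁ hA₁ hW₁ S₁ _ _ hS₁ φ₁ hN₁ h
      have := isSymp_pre z hW
      refine ih _ (hpre W hWt) (pre z W) (zin z W) S₁ hS₁ _ _ rfl (fpf_restrict z hA₁ hW₁) ?_
      rintro s _ ⟨a, rfl⟩
      refine ⟨⟨φ₁ s * a.1 * (φ₁ s)⁻¹, hN₁ s a a.2⟩, MulEquiv.ext fun e => Subtype.ext ?_⟩
      show (φ₁ s * a.1 * (φ₁ s)⁻¹) e.1 = _
      rw [← map_inv (restrictHom (pre z W) φ₁ h), ← map_inv φ₁]
      rfl
    have red : ∀ A₁ : Subgroup (MulAut E), Fpf z A₁ → Normalises φ A₁ →
        Reducible (z := z) φ A₁ → Ext z φ := by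
      rintro A₁ hA₁ hN₁ ⟨W, hWb, hWt, hWA, hWφ⟩
      have horthA : ∀ (U : Submodule (ZMod 2) (V z)), (∀ a ∈ A₁, ∀ x ∈ U, piV z a x ∈ U) →
          ∀ a ∈ A₁, ∀ x ∈ (B z).orthogonal U, piV z a x ∈ (B z).orthogonal U :=
        fun U h => Inv.orthogonal (T := A₁) z h
      have horthφ : ∀ (U : Submodule (ZMod 2) (V z)), (∀ s, ∀ x ∈ U, piV z (φ s) x ∈ U) →
          ∀ s, ∀ x ∈ (B z).orthogonal U, piV z (φ s) x ∈ (B z).orthogonal U :=
        fun U h s => (Inv.orthogonal (T := φ.range) z (by rintro _ ⟨t, rfl⟩; exact h t)) _ ⟨s, rfl⟩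
      by_cases hWW : W ⊓ (B z).orthogonal W = ⊥
      · have hc : IsCompl W ((B z).orthogonal W) :=
          (LinearMap.BilinForm.isCompl_orthogonal_iff_disjoint (B_isRefl z)).2 (disjoint_iff.2 hWW)
        have hW't : (B z).orthogonal W ≠ ⊤ := fun h => hWb (by
          have := hc.inf_eq_bot
          rwa [h, inf_top_eq] at this)
        have hW'W' : (B z).orthogonal W ⊓ (B z).orthogonal ((B z).orthogonal W) = ⊥ := by
          rw [LinearMap.BilinForm.orthogonal_orthogonal (B_nondeg z) (B_isRefl z), inf_comm, hWW]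
        exact ext_of_preserved z φ W _ hc (fun x hx y hy => hy x hx)
          (fun s => pre_inv z (hWφ s)) (fun s => pre_inv z (horthφ W hWφ s))
          (piece W hWW hWt A₁ hA₁ hWA S hS φ hN₁ _)
          (piece _ hW'W' hW't A₁ hA₁ (horthA W hWA) S hS φ hN₁ _)
      · set X := W ⊓ (B z).orthogonal W with hXdef
        have hX : X ≤ (B z).orthogonal X := fun x hx y hy => hx.2 y hy.1
        have hXA : ∀ a ∈ A₁, ∀ x ∈ X, piV z a x ∈ X :=
          fun a ha x hx => ⟨hWA a ha x hx.1, horthA W hWA a ha x hx.2⟩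
        have hXφ : ∀ s, ∀ x ∈ X, piV z (φ s) x ∈ X :=
          fun s x hx => ⟨hWφ s x hx.1, horthφ W hWφ s x hx.2⟩
        obtain ⟨W₀, hsp, hinv⟩ := exists_split z hA₁ X hX hXA
        have := split_normal z hsp
        have := isSymp_mid z hsp
        have h₁ := fun s => pre_inv z (horthφ X hXφ s)
        have h₂ : ∀ s, ∀ e ∈ W₀, φ s e ∈ W₀ := fun s => hinv _ (hXφ s) fun a ha => by
          have := hN₁ s⁻¹ a ha
          rwa [map_inv, inv_inv] at this
        have hA₂ : ∀ a : A₁, ∀ e ∈ W₀, (a : MulAut E) e ∈ W₀ := fun a => hinv _ (hXA a a.2)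
          fun b hb => A₁.mul_mem (A₁.mul_mem (A₁.inv_mem a.2) hb) a.2
        have hA₁' : ∀ a : A₁, ∀ e ∈ pre z ((B z).orthogonal X),
            (a : MulAut E) e ∈ pre z ((B z).orthogonal X) := fun a => pre_inv z (horthA X hXA a a.2)
        refine ext_of_isotropic z φ hsp hX h₁ h₂ (ih _ (hcard ▸ card_mid_lt z hsp hX hWW)
          (Mid z X W₀) (zq z X W₀) S hS _ _ rfl (fpf_mid z hsp hA₁ hA₁' hA₂) ?_)
        rintro s _ ⟨a, rfl⟩
        refine ⟨⟨φ s * a.1 * (φ s)⁻¹, hN₁ s a a.2⟩, MulEquiv.ext fun x => ?_⟩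
        induction x using QuotientGroup.induction_on with
        | H e =>
          rw [← map_inv (midHom z φ h₁ h₂)]
          show midMk z X W₀ _ = midMk z X W₀ _
          refine congrArg _ (Subtype.ext ?_)
          show (φ s * a.1 * (φ s)⁻¹) e.1 = φ s ((a : MulAut E) (φ s⁻¹ e.1))
          rw [← map_inv φ]; rfl
    by_cases hirr : Reducible (z := z) φ A
    · exact red A hA hN hirr
    by_cases hno : ∀ e ∈ cenA z A, e * e = e → e = 0 ∨ e = 1
    · obtain ⟨A', hp, hA', hN'⟩ := exists_cyclic_replacement hA hN hV hno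
      by_cases hirr' : Reducible (z := z) φ A'
      · exact red A' hA' hN' hirr'
      have : Fact (Nat.card A').Prime := ⟨hp⟩
      let ψ : S →* MulAut A' :=
        { toFun := fun s =>
            { toFun := fun a => ⟨φ s * a.1 * (φ s)⁻¹, hN' s a a.2⟩
              invFun := fun a => ⟨φ s⁻¹ * a.1 * (φ s⁻¹)⁻¹, hN' s⁻¹ a a.2⟩
              left_inv := fun a => Subtype.ext (by simp [mul_assoc])
              right_inv := fun a => Subtype.ext (by simp [mul_assoc])
              map_mul' := fun a b => Subtype.ext (by simp [mul_assoc]) }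
          map_one' := MulEquiv.ext fun a => Subtype.ext (by simp)
          map_mul' := fun s t => MulEquiv.ext fun a => Subtype.ext (by simp [mul_assoc]) }
      have hker : ∀ s, ψ s = 1 → φ s = 1 := by
        let act : MulAction ψ.ker (V z) :=
          { smul := fun s x => piV z (φ s.1) x
            one_smul := fun x => by
              show piV z (φ 1) x = x
              rw [map_one, map_one]; rfl
            mul_smul := fun s t x => by
              show piV z (φ (s.1 * t.1)) x = piV z (φ s.1) (piV z (φ t.1) x)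
              rw [map_mul, map_mul]; rfl }
        let F : Submodule (ZMod 2) (V z) :=
          { carrier := {x | ∀ s : ψ.ker, piV z (φ s.1) x = x}
            zero_mem' := fun s => map_zero _
            add_mem' := fun {x y} hx hy s => by rw [map_add, hx, hy]
            smul_mem' := fun c x hx s => by rw [map_smul, hx] }
        have hcomm : ∀ s : ψ.ker, ∀ a ∈ A', Commute (φ s.1) a := by
          intro s a ha
          have h2 := congrArg Subtype.val (congrArg (fun g : MulAut A' => g ⟨a, ha⟩) s.2)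
          have h3 : φ s.1 * a * (φ s.1)⁻¹ = a := h2
          exact mul_inv_eq_iff_eq_mul.1 h3
        have hFA : ∀ a ∈ A', ∀ x ∈ F, piV z a x ∈ F := by
          intro a ha x hx s
          rw [← Module.End.mul_apply, ← map_mul, (hcomm s a ha).eq, map_mul, Module.End.mul_apply, hx]
        have hFφ : ∀ t, ∀ x ∈ F, piV z (φ t) x ∈ F := by
          intro t x hx s
          have h2 := hx ⟨t⁻¹ * s.1 * t, by simpa using ψ.normal_ker.conj_mem s.1 s.2 t⁻¹⟩
          conv_rhs => rw [← h2]
          dsimp only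
          rw [← Module.End.mul_apply, ← Module.End.mul_apply, ← map_mul (piV z), ← map_mul (piV z),
            ← map_mul φ, ← map_mul φ]
          congr 3
          group
        have hF0 : F ≠ ⊥ := by
          intro hb
          have h2 : 2 ∣ Nat.card (V z) := by
            rw [Module.natCard_eq_pow_finrank (K := ZMod 2), Nat.card_zmod]
            exact dvd_pow_self 2 (Module.finrank_pos (R := ZMod 2) (M := V z)).ne'
          obtain ⟨b, hb', hne⟩ := (hS.to_subgroup ψ.ker).exists_fixed_point_of_prime_dvd_card_of_fixed_point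
            (V z) h2 (a := 0) (fun s => map_zero _)
          exact hne ((Submodule.mem_bot _).1 (hb.le (fun s => hb' s : b ∈ F))).symm
        have hFtop : F = ⊤ := by
          by_contra hne
          exact hirr' ⟨F, hF0, hne, hFA, hFφ⟩
        intro s hs'
        refine eq_of_piV_eq z hA' (hcomm ⟨s, hs'⟩) (fun a _ => Commute.one_left a) ?_
        rw [map_one]
        exact LinearMap.ext fun x => (hFtop.ge (Submodule.mem_top (x := x)) : x ∈ F) ⟨s, hs'⟩
      have hA'c : IsCyclic A' := isCyclic_of_prime_card rfl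
      have hcyc : IsCyclic (MulAut A') := by
        have : IsCyclic (ZMod (Nat.card A'))ˣ := inferInstance
        exact isCyclic_of_surjective (IsCyclic.mulAutMulEquiv A').symm (IsCyclic.mulAutMulEquiv A').symm.surjective
      obtain ⟨⟨g, s₁, rfl⟩, hg⟩ := IsCyclic.exists_generator (α := ψ.range)
      refine ext_of_cyclic z φ (φ s₁) fun s => ?_
      obtain ⟨k, hk⟩ := Subgroup.mem_zpowers_iff.1 (hg ⟨ψ s, s, rfl⟩)
      refine Subgroup.mem_zpowers_iff.2 ⟨k, ?_⟩
      have h2 : ψ (s₁ ^ k) = ψ s := by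
        rw [map_zpow]; exact congrArg Subtype.val hk
      have h3 := hker ((s₁ ^ k)⁻¹ * s) (by rw [map_mul, map_inv, h2, inv_mul_cancel])
      rw [map_mul, map_inv, inv_mul_eq_one, map_zpow] at h3
      exact h3
    · push Not at hno
      obtain ⟨e₀, he₀, hi, h0, h1⟩ := hno
      obtain ⟨M, s₀, f, hM, hs₀, hf, hfm, hMf, hs₀f, hadj⟩ := exists_swapped hS hN hirr he₀ hi h0 h1
      have hff : ∀ x, f (f x) = f x := fun x => LinearMap.congr_fun hf x
      set W := LinearMap.range f with hWdef
      set W' := LinearMap.range (1 - f) with hW'def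
      have hmemW : ∀ x, x ∈ W ↔ f x = x :=
        fun x => ⟨fun ⟨w, hw⟩ => by rw [← hw, hff], fun h => ⟨x, h⟩⟩
      have hmemW' : ∀ x, x ∈ W' ↔ f x = 0 := fun x =>
        ⟨fun ⟨w, hw⟩ => by rw [← hw, LinearMap.sub_apply, Module.End.one_apply, map_sub, hff, sub_self],
          fun h => ⟨x, by rw [LinearMap.sub_apply, Module.End.one_apply, h, sub_zero]⟩⟩
      have hc : IsCompl W W' := by
        refine IsCompl.of_eq ?_ ?_
        · rw [eq_bot_iff]
          rintro x ⟨hx, hx'⟩
          rw [Submodule.mem_bot, ← (hmemW x).1 hx, (hmemW' x).1 hx']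
        · rw [eq_top_iff]
          intro x _
          exact Submodule.mem_sup.2 ⟨f x, ⟨x, rfl⟩, (1 - f) x, ⟨x, rfl⟩, by
            rw [LinearMap.sub_apply, Module.End.one_apply, add_sub_cancel]⟩
      have hfs : ∀ x, piV z (φ s₀) (f x) = piV z (φ s₀) x - f (piV z (φ s₀) x) := by
        intro x
        have h2 := LinearMap.congr_fun hs₀f (piV z (φ s₀) x)
        rw [Module.End.mul_apply, Module.End.mul_apply, piV_inv_apply] at h2
        exact h2
      have hfM : ∀ m ∈ M, ∀ x, piV z (φ m) (f x) = f (piV z (φ m) x) :=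
        fun m hm x => LinearMap.congr_fun (hMf m hm) x
      have hsw : ∀ e ∈ pre z W, φ s₀ e ∈ pre z W' := pre_inv' z fun x hx => by
        rw [hmemW'] at *
        rw [← (hmemW x).1 hx, hfs, map_sub, hff, sub_self]
      have hsw' : ∀ e ∈ pre z W', φ s₀ e ∈ pre z W := pre_inv' z fun x hx => by
        rw [hmemW]
        have h2 := hfs x
        rw [(hmemW' x).1 hx, map_zero, eq_comm, sub_eq_zero] at h2
        exact h2.symm
      have hMW : ∀ m : M, ∀ x ∈ W, piV z (φ m) x ∈ W := fun m x hx => by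
        rw [hmemW, ← hfM m m.2, (hmemW x).1 hx]
      have hMW' : ∀ m : M, ∀ x ∈ W', piV z (φ m) x ∈ W' := fun m x hx => by
        rw [hmemW', ← hfM m m.2, (hmemW' x).1 hx, map_zero]
      have hWA : ∀ a ∈ A, ∀ x ∈ W, piV z a x ∈ W := fun a ha x hx => by
        rw [hmemW]
        exact (LinearMap.congr_fun ((mem_cenA.1 hfm).2 a ha) x).symm.trans (by
          show piV z a (f x) = piV z a x
          rw [(hmemW x).1 hx])
      have hWA' : ∀ a ∈ A, ∀ x ∈ W', piV z a x ∈ W' := fun a ha x hx => by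
        rw [hmemW']
        exact (LinearMap.congr_fun ((mem_cenA.1 hfm).2 a ha) x).symm.trans (by
          show piV z a (f x) = 0
          rw [(hmemW' x).1 hx, map_zero])
      have hNM : Normalises (φ.comp M.subtype) A := fun m => hN m
      rcases hadj with had | had
      · have ho : ∀ x ∈ W, ∀ y ∈ W', B z x y = 0 := fun x hx y hy => by
          rw [← (hmemW x).1 hx, had, (hmemW' y).1 hy, map_zero]
        have hWW : W ⊓ (B z).orthogonal W = ⊥ := by
          rw [eq_bot_iff]
          rintro x ⟨hx, hx'⟩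
          refine (Submodule.mem_bot _).2 (B_eq_zero_of_forall z fun y => ?_)
          obtain ⟨a, ha, b, hb, rfl⟩ := Submodule.mem_sup.1 (hc.sup_eq_top.ge (Submodule.mem_top (x := y)))
          rw [map_add, B_symm, hx' a ha, ho x hx b hb, add_zero]
        have hWt : W ≠ ⊤ := by
          intro ht
          have h2 : f = 1 := LinearMap.ext fun x => (hmemW x).1 (ht ▸ Submodule.mem_top)
          rw [h2, sub_self, mul_one, ← map_mul, mul_inv_cancel, map_one] at hs₀f
          obtain ⟨x, hx⟩ := exists_ne (0 : V z)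
          exact hx (LinearMap.congr_fun hs₀f x)
        exact ext_of_swapped z φ M hM s₀ hs₀ W W' hc ho (fun m => pre_inv z (hMW m)) hsw hsw'
          (piece W hWW hWt A hA hWA M (hS.to_subgroup M) (φ.comp M.subtype) hNM _)
      · have hiso : W ≤ (B z).orthogonal W := fun x hx y hy => by
          show B z y x = 0
          rw [← (hmemW y).1 hy, had, LinearMap.sub_apply, Module.End.one_apply, (hmemW x).1 hx,
            sub_self, map_zero]
        have hiso' : W' ≤ (B z).orthogonal W' := fun x hx y hy => by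
          show B z y x = 0
          have h2 := had y x
          rw [(hmemW' y).1 hy, map_zero, LinearMap.zero_apply, LinearMap.sub_apply,
            Module.End.one_apply, (hmemW' x).1 hx, sub_zero] at h2
          exact h2.symm
        obtain ⟨W₀, hsp, hinv⟩ := exists_split z hA W hiso hWA
        let W₀' : Subgroup E := W₀.map (φ s₀).toMonoidHom
        have hM₀ : ∀ m : M, ∀ e ∈ W₀, φ m e ∈ W₀ := fun m => hinv _ (hMW m) fun a ha => by
          have := hN (m : S)⁻¹ a ha
          rwa [map_inv, inv_inv] at this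
        have hsp' : Split z W' W₀' := by
          refine ⟨?_, ?_, fun e he => ?_⟩
          · rintro _ ⟨e, he, rfl⟩; exact hsw e (hsp.le he)
          · rintro ⟨e, he, hez⟩
            have : e = z := (φ s₀).injective (hez.trans (aut_fix z _).symm)
            exact hsp.z_not_mem (this ▸ he)
          · have h2 : (φ s₀).symm e ∈ pre z W := by
              have h3 := hsw' e he
              have h4 := pre_inv z (hMW ⟨(s₀ * s₀)⁻¹, M.inv_mem (Subgroup.mul_self_mem_of_index_two hM s₀)⟩) _ h3
              rw [← MulAut.mul_apply, ← map_mul, show (s₀ * s₀)⁻¹ * s₀ = s₀⁻¹ by group, map_inv] at h4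
              exact h4
            rcases hsp.cover _ h2 with h3 | h3
            · exact Or.inl ⟨_, h3, MulEquiv.apply_symm_apply _ _⟩
            · refine Or.inr ⟨_, h3, ?_⟩
              show φ s₀ ((φ s₀).symm e * z) = e * z
              rw [map_mul, MulEquiv.apply_symm_apply, aut_fix z]
        refine ext_of_polarised z φ M hM s₀ hs₀ hc hiso' hiso hsp hsp' (fun m => ?_) ?_
          (fun e he => ⟨e, he, rfl⟩)
        · rintro _ ⟨e, he, rfl⟩
          refine ⟨φ (s₀⁻¹ * m * s₀) e, hM₀ ⟨_, ?_⟩ e he, ?_⟩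
          · simpa using (Subgroup.normal_of_index_eq_two hM).conj_mem _ m.2 s₀⁻¹
          · show φ s₀ (φ (s₀⁻¹ * m * s₀) e) = φ m (φ s₀ e)
            rw [← MulAut.mul_apply, ← MulAut.mul_apply, ← map_mul, ← map_mul]
            congr 2; group
        · rintro _ ⟨e, he, rfl⟩
          show φ s₀ (φ s₀ e) ∈ W₀
          rw [← MulAut.mul_apply, ← map_mul]
          exact hM₀ ⟨_, Subgroup.mul_self_mem_of_index_two hM s₀⟩ e he
where
  pre_inv' {E : Type u} [Group E] (z : E) [IsSymp z] {W W' : Submodule (ZMod 2) (V z)} {α : MulAut E}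
      (h : ∀ x ∈ W, piV z α x ∈ W') : ∀ e ∈ pre z W, α e ∈ pre z W' := fun e he => by
    have := h _ he
    rwa [piV_mk] at this

end CfsgLib.DadeExt
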