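import Cfsg.Agent.Lib.DadeExt.Basic

/-!
# Central products: tensor products and tensor induction
-/

set_option autoImplicit false

noncomputable section

namespace CfsgLib.DadeExt

universe u v

/-- Extending a homomorphism from a subgroup of index two. -/
theorem exists_extend_index_two {S : Type v} [Group S] {N : Type*} [Monoid N] (M : Subgroup S)
    (hM : M.index = 2) {s₀ : S} (hs₀ : s₀ ∉ M) (f : M →* N) (T : N)
    (hT2 : T * T = f ⟨s₀ * s₀, Subgroup.mul_self_mem_of_index_two hM s₀⟩)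
    (hconj : ∀ m : M, T * f m =
      f ⟨s₀ * m * s₀⁻¹, (Subgroup.normal_of_index_eq_two hM).conj_mem m m.2 s₀⟩ * T) :
    ∃ F : S →* N, (∀ m : M, F m = f m) ∧ F s₀ = T := by
  classical
  have hmul := fun a b => Subgroup.mul_mem_iff_of_index_two hM (a := a) (b := b)
  have hout : ∀ {a : S}, a ∉ M → a * s₀⁻¹ ∈ M := fun {a} ha => by
    rw [hmul, inv_mem_iff]; exact iff_of_false ha hs₀
  let F : S → N := fun a => if h : a ∈ M then f ⟨a, h⟩ else f ⟨a * s₀⁻¹, hout h⟩ * T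
  have hin : ∀ {a : S} (h : a ∈ M), F a = f ⟨a, h⟩ := fun h => dif_pos h
  have hnot : ∀ {a : S} (h : a ∉ M), F a = f ⟨a * s₀⁻¹, hout h⟩ * T := fun h => dif_neg h
  refine ⟨{ toFun := F, map_one' := (hin M.one_mem).trans (map_one f), map_mul' := fun a b => ?_ },
    fun m => hin m.2, ?_⟩
  · by_cases ha : a ∈ M <;> by_cases hb : b ∈ M
    · rw [hin ha, hin hb, hin (M.mul_mem ha hb), ← map_mul]; rfl
    · have hab : a * b ∉ M := fun h => hb ((hmul a b).1 h |>.1 ha)
      rw [hin ha, hnot hb, hnot hab, ← mul_assoc, ← map_mul]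
      congr 2
      exact Subtype.ext (mul_assoc _ _ _)
    · have hab : a * b ∉ M := fun h => ha ((hmul a b).1 h |>.2 hb)
      rw [hnot ha, hin hb, hnot hab, mul_assoc (f _) T, hconj, ← mul_assoc, ← map_mul]
      congr 2
      refine Subtype.ext ?_
      show a * b * s₀⁻¹ = a * s₀⁻¹ * (s₀ * b * s₀⁻¹)
      group
    · have hab : a * b ∈ M := (hmul a b).2 (iff_of_false ha hb)
      rw [hnot ha, hnot hb, hin hab, mul_assoc (f ⟨a * s₀⁻¹, hout ha⟩), ← mul_assoc T, hconj,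
        mul_assoc, hT2, ← map_mul, ← map_mul]
      refine congrArg f (Subtype.ext ?_)
      show a * b = a * s₀⁻¹ * (s₀ * (b * s₀⁻¹) * s₀⁻¹ * (s₀ * s₀))
      group
  · show F s₀ = T
    rw [hnot hs₀]
    have : (⟨s₀ * s₀⁻¹, hout hs₀⟩ : M) = 1 := Subtype.ext (mul_inv_cancel s₀)
    rw [this, map_one, one_mul]

variable {E : Type u} [Group E] (z : E) [hs : IsSymp z]

/-- Restriction of an action to an invariant subgroup. -/
def restrictHom {S : Type v} [Group S] (K : Subgroup E) (f : S →* MulAut E)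
    (h : ∀ s, ∀ e ∈ K, f s e ∈ K) : S →* MulAut K where
  toFun s :=
    { toFun := fun e => ⟨f s e.1, h s e.1 e.2⟩
      invFun := fun e => ⟨f s⁻¹ e.1, h s⁻¹ e.1 e.2⟩
      left_inv := fun e => Subtype.ext (by
        show f s⁻¹ (f s e.1) = e.1
        rw [← MulAut.mul_apply, ← map_mul, inv_mul_cancel, map_one, MulAut.one_apply])
      right_inv := fun e => Subtype.ext (by
        show f s (f s⁻¹ e.1) = e.1
        rw [← MulAut.mul_apply, ← map_mul, mul_inv_cancel, map_one, MulAut.one_apply])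
      map_mul' := fun a b => Subtype.ext (map_mul (f s) a.1 b.1) }
  map_one' := MulEquiv.ext fun e => Subtype.ext (by
    show f 1 e.1 = e.1
    rw [map_one, MulAut.one_apply])
  map_mul' := fun s t => MulEquiv.ext fun e => Subtype.ext (by
    show f (s * t) e.1 = f s (f t e.1)
    rw [map_mul, MulAut.mul_apply])

theorem restrictHom_coe {S : Type v} [Group S] (K : Subgroup E) (f : S →* MulAut E)
    (h : ∀ s, ∀ e ∈ K, f s e ∈ K) (s : S) (e : K) : (restrictHom K f h s e : E) = f s e := rfl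

theorem pre_inv {W : Submodule (ZMod 2) (V z)} {α : MulAut E} (h : ∀ x ∈ W, piV z α x ∈ W) :
    ∀ e ∈ pre z W, α e ∈ pre z W := by
  intro e he
  have := h _ he
  rwa [piV_mk] at this

/-- The distinguished involution inside `pre W`. -/
abbrev zin (W : Submodule (ZMod 2) (V z)) : pre z W := ⟨z, z_mem_pre z W⟩

theorem isSymp_pre {W : Submodule (ZMod 2) (V z)} (hW : W ⊓ (B z).orthogonal W = ⊥) :
    IsSymp (zin z W) where
  ne_one h := hs.ne_one (congrArg Subtype.val h)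
  z_mul := Subtype.ext hs.z_mul
  central e := Subtype.ext (hs.central e.1)
  comm a b := (hs.comm a.1 b.1).imp Subtype.ext (fun h => Subtype.ext h)
  sq a := (hs.sq a.1).imp Subtype.ext (fun h => Subtype.ext h)
  centre a h := by
    have h1 : mk z a.1 ∈ W ⊓ (B z).orthogonal W := ⟨a.2, fun w hw => by
      obtain ⟨b, rfl⟩ := mk_surjective z w
      show B z (mk z b) (mk z a.1) = 0
      rw [B_mk, cc_eq_zero]
      exact (congrArg Subtype.val (h ⟨b, hw⟩)).symm⟩
    rw [hW] at h1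
    exact ((mk_eq_zero z).1 ((Submodule.mem_bot _).1 h1)).imp (fun h => Subtype.ext h) fun h => Subtype.ext h

/-- The map `V (pre W) → V`. -/
theorem fpf_restrict [Finite E] {W : Submodule (ZMod 2) (V z)} [IsSymp (zin z W)]
    {A : Subgroup (MulAut E)} (hA : Fpf z A) (hW : Inv z (A : Set (MulAut E)) W) :
    Fpf (zin z W) (restrictHom (pre z W) A.subtype fun a => pre_inv z (hW a a.2)).range := by
  refine ⟨hA.odd.of_dvd_nat (Subgroup.card_range_dvd _), fun v hv => ?_⟩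
  obtain ⟨e, rfl⟩ := mk_surjective (zin z W) v
  have h : mk z e.1 = 0 := hA.fpf _ fun a ha => by
    have := hv _ ⟨⟨a, ha⟩, rfl⟩
    rw [piV_mk, mk_eq_mk] at this
    obtain ⟨i, hi⟩ := this
    rw [piV_mk, mk_eq_mk]
    refine ⟨i, ?_⟩
    have h2 := congrArg Subtype.val hi
    rcases zmod2_cases i with rfl | rfl
    · simpa [zp_zero, restrictHom_coe] using h2
    · simpa [zp_one, restrictHom_coe] using h2
  exact (mk_eq_zero (zin z W)).2 (((mk_eq_zero z).1 h).imp (fun h => Subtype.ext h) fun h => Subtype.ext h)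

/-- The tensor product of representations of two complementary orthogonal pieces. -/
theorem exists_tensor_rep [Finite E] {W W' : Submodule (ZMod 2) (V z)} (hc : IsCompl W W')
    (ho : ∀ x ∈ W, ∀ y ∈ W', B z x y = 0) {U U' : Type*} [AddCommGroup U] [Module ℂ U]
    [AddCommGroup U'] [Module ℂ U'] (ρ₁ : Representation ℂ (pre z W) U)
    (ρ₂ : Representation ℂ (pre z W') U') (h₁ : ρ₁ (zin z W) = -1) (h₂ : ρ₂ (zin z W') = -1) :
    ∃ ρ : Representation ℂ E (TensorProduct ℂ U U'),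
      (∀ (a : pre z W) (b : pre z W'), ρ (a.1 * b.1) = TensorProduct.map (ρ₁ a) (ρ₂ b)) ∧
      (∀ e : E, ∃ (a : pre z W) (b : pre z W'), a.1 * b.1 = e) ∧ ρ z = -1 := by
  have hcomm : ∀ (a : pre z W) (b : pre z W'), a.1 * b.1 = b.1 * a.1 := fun a b =>
    (cc_eq_zero z).1 ((B_mk z a.1 b.1).symm.trans (ho _ a.2 _ b.2))
  let f : pre z W × pre z W' →* E :=
    { toFun := fun x => x.1.1 * x.2.1
      map_one' := mul_one 1
      map_mul' := fun x y => by
        show x.1.1 * y.1.1 * (x.2.1 * y.2.1) = x.1.1 * x.2.1 * (y.1.1 * y.2.1)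
        rw [mul_assoc, ← mul_assoc y.1.1, hcomm y.1 x.2]; group }
  have hf : Function.Surjective f := fun e => by
    obtain ⟨x, y, hx, hy, hxy⟩ := Submodule.codisjoint_iff_exists_add_eq.1 hc.codisjoint (mk z e)
    obtain ⟨a, rfl⟩ := mk_surjective z x
    obtain ⟨b, rfl⟩ := mk_surjective z y
    rw [← mk_mul] at hxy
    obtain ⟨i, hi⟩ := (mk_eq_mk z).1 hxy
    have hb : b * zp z i ∈ pre z W' := by rw [mem_pre, mk_mul, mk_zp, add_zero]; exact hy
    exact ⟨(⟨a, hx⟩, ⟨b * zp z i, hb⟩), by rw [hi]; exact (mul_assoc _ _ _).symm⟩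
  let Ψ : Representation ℂ (pre z W × pre z W') (TensorProduct ℂ U U') :=
    Representation.tprod (ρ₁.comp (MonoidHom.fst _ _)) (ρ₂.comp (MonoidHom.snd _ _))
  have hΨ : ∀ x, Ψ x = TensorProduct.map (ρ₁ x.1) (ρ₂ x.2) := fun x => rfl
  have hker : f.ker ≤ Ψ.toHomUnits.ker := by
    rintro ⟨a, b⟩ hx
    have hx' : a.1 * b.1 = 1 := hx
    have ha : mk z a.1 = 0 := by
      refine Submodule.disjoint_def.1 hc.disjoint _ a.2 ?_
      rw [eq_inv_of_mul_eq_one_left hx', mk_inv]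
      exact W'.neg_mem b.2
    rw [MonoidHom.mem_ker]
    refine Units.ext ?_
    show Ψ (a, b) = 1
    rw [hΨ]
    rcases (mk_eq_zero z).1 ha with h | h
    · rw [h, one_mul] at hx'
      rw [Subtype.ext h (a2 := (1 : pre z W)), Subtype.ext hx' (a2 := (1 : pre z W')), map_one,
        map_one, TensorProduct.map_one]
    · have hb : b.1 = z := by
        rw [h] at hx'
        rw [eq_inv_of_mul_eq_one_right hx', inv_eq_of_mul_eq_one_left hs.z_mul]
      rw [Subtype.ext h (a2 := zin z W), Subtype.ext hb (a2 := zin z W'), h₁, h₂]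
      exact TensorProduct.ext' fun x y => by simp [TensorProduct.neg_tmul, TensorProduct.tmul_neg]
  let ρ : Representation ℂ E (TensorProduct ℂ U U') :=
    (Units.coeHom _).comp (f.liftOfSurjective hf ⟨Ψ.toHomUnits, hker⟩)
  have hρ : ∀ x, ρ (f x) = Ψ x := fun x =>
    congrArg Units.val (MonoidHom.liftOfRightInverse_comp_apply f _ (Function.rightInverse_surjInv hf) ⟨Ψ.toHomUnits, hker⟩ x)
  refine ⟨ρ, fun a b => (hρ (a, b)).trans (hΨ _), fun e => ?_, ?_⟩
  · obtain ⟨⟨a, b⟩, h⟩ := hf e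
    exact ⟨a, b, h⟩
  · rw [show z = f (zin z W, 1) from (mul_one z).symm, hρ, hΨ]
    show TensorProduct.map (ρ₁ (zin z W)) (ρ₂ 1) = -1
    rw [h₁, map_one]
    exact TensorProduct.ext' fun x y => by simp [TensorProduct.neg_tmul]

variable [Finite E]

theorem tensor_card {W W' : Submodule (ZMod 2) (V z)} (hc : IsCompl W W') :
    2 * Nat.card E = Nat.card (pre z W) * Nat.card (pre z W') := by
  rw [card_pre, card_pre, card_eq z, ← Nat.card_congr (Submodule.prodEquivOfIsCompl W W' hc).toEquiv,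
    Nat.card_prod]
  ring

theorem tensor_dim {W W' : Submodule (ZMod 2) (V z)} (hc : IsCompl W W') {n m : ℕ}
    (hn : 2 * n ^ 2 = Nat.card (pre z W)) (hm : 2 * m ^ 2 = Nat.card (pre z W')) :
    2 * (n * m) ^ 2 = Nat.card E := by
  have := tensor_card z hc
  rw [← hn, ← hm] at this
  nlinarith

/-- **Orthogonal decomposition.** -/
theorem ext_of_preserved {S : Type v} [Group S] (φ : S →* MulAut E)
    (W W' : Submodule (ZMod 2) (V z)) (hc : IsCompl W W') (ho : ∀ x ∈ W, ∀ y ∈ W', B z x y = 0)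
    (h : ∀ s, ∀ e ∈ pre z W, φ s e ∈ pre z W) (h' : ∀ s, ∀ e ∈ pre z W', φ s e ∈ pre z W')
    (e₁ : Ext (zin z W) (restrictHom (pre z W) φ h))
    (e₂ : Ext (zin z W') (restrictHom (pre z W') φ h')) : Ext z φ := by
  obtain ⟨n, ρ₁, σ₁, hn, hz₁, hc₁⟩ := e₁
  obtain ⟨m, ρ₂, σ₂, hm, hz₂, hc₂⟩ := e₂
  obtain ⟨ρ, hρ, hsurj, hz⟩ := exists_tensor_rep z hc ho ρ₁ ρ₂ hz₁ hz₂
  refine Ext.of_module z φ ρ (Representation.tprod σ₁ σ₂) ?_ hz fun s e => ?_
  · rw [Module.finrank_tensorProduct, Module.finrank_fin_fun, Module.finrank_fin_fun]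
    exact tensor_dim z hc hn hm
  · obtain ⟨a, b, rfl⟩ := hsurj e
    rw [map_mul (φ s), show φ s a.1 = (restrictHom _ φ h s a).1 from rfl,
      show φ s b.1 = (restrictHom _ φ h' s b).1 from rfl, hρ, hρ]
    show TensorProduct.map (σ₁ s) (σ₂ s) * _ = _ * TensorProduct.map (σ₁ s) (σ₂ s)
    rw [← TensorProduct.map_mul, ← TensorProduct.map_mul, hc₁, hc₂]

/-- **Tensor induction.** -/
theorem ext_of_swapped {S : Type v} [Group S] (φ : S →* MulAut E) (M : Subgroup S)
    (hM : M.index = 2) (s₀ : S) (hs₀ : s₀ ∉ M)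
    (W W' : Submodule (ZMod 2) (V z)) (hc : IsCompl W W') (ho : ∀ x ∈ W, ∀ y ∈ W', B z x y = 0)
    (h : ∀ m : M, ∀ e ∈ pre z W, φ m e ∈ pre z W)
    (hsw : ∀ e ∈ pre z W, φ s₀ e ∈ pre z W') (hsw' : ∀ e ∈ pre z W', φ s₀ e ∈ pre z W)
    (e₁ : Ext (zin z W) (restrictHom (pre z W) (φ.comp M.subtype) h)) : Ext z φ := by
  obtain ⟨n, ρ₁, σ₁, hn, hz₁, hc₁⟩ := e₁
  have hn' := Subgroup.normal_of_index_eq_two hM
  have hss : s₀ * s₀ ∈ M := Subgroup.mul_self_mem_of_index_two hM s₀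
  have hj : ∀ e ∈ pre z W', φ s₀⁻¹ e ∈ pre z W := by
    intro e he
    have h1 := hsw' e he
    have : φ s₀⁻¹ e = φ (s₀ * s₀)⁻¹ (φ s₀ e) := by
      rw [← MulAut.mul_apply, ← map_mul]; congr 2; group
    rw [this]
    exact h ⟨_, M.inv_mem hss⟩ _ h1
  let j : pre z W' →* pre z W :=
    { toFun := fun e => ⟨φ s₀⁻¹ e.1, hj _ e.2⟩
      map_one' := Subtype.ext (map_one _)
      map_mul' := fun a b => Subtype.ext (map_mul _ _ _) }
  let cm : M →* M :=
    { toFun := fun m => ⟨s₀⁻¹ * m.1 * s₀, by simpa using hn'.conj_mem m.1 m.2 s₀⁻¹⟩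
      map_one' := Subtype.ext (by simp)
      map_mul' := fun a b => Subtype.ext (by simp [mul_assoc]) }
  have hz₂ : (ρ₁.comp j) (zin z W') = -1 := by
    rw [MonoidHom.comp_apply, show j (zin z W') = zin z W from Subtype.ext (aut_fix z _), hz₁]
  obtain ⟨ρ, hρ, hsurj, hz⟩ := exists_tensor_rep z hc ho ρ₁ (ρ₁.comp j) hz₁ hz₂
  let σM : Representation ℂ M (TensorProduct ℂ (Fin n → ℂ) (Fin n → ℂ)) :=
    Representation.tprod σ₁ (σ₁.comp cm)
  let T : Module.End ℂ (TensorProduct ℂ (Fin n → ℂ) (Fin n → ℂ)) :=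
    TensorProduct.map (σ₁ ⟨s₀ * s₀, hss⟩) 1 ∘ₗ (TensorProduct.comm ℂ _ _).toLinearMap
  have hT : ∀ x y, T (TensorProduct.tmul ℂ x y) = TensorProduct.tmul ℂ (σ₁ ⟨s₀ * s₀, hss⟩ y) x :=
    fun x y => rfl
  have hσM : ∀ (m : M) x y, σM m (TensorProduct.tmul ℂ x y) =
      TensorProduct.tmul ℂ (σ₁ m x) (σ₁ (cm m) y) := fun m x y => rfl
  obtain ⟨σ, hσ, hσ₀⟩ := exists_extend_index_two M hM hs₀ σM T
    (TensorProduct.ext' fun x y => by
      rw [Module.End.mul_apply, hT, hT, hσM,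
        show cm ⟨s₀ * s₀, hss⟩ = ⟨s₀ * s₀, hss⟩ from Subtype.ext (by
          show s₀⁻¹ * (s₀ * s₀) * s₀ = s₀ * s₀
          group)])
    (fun m => TensorProduct.ext' fun x y => by
      rw [Module.End.mul_apply, Module.End.mul_apply, hσM, hT, hT, hσM, ← Module.End.mul_apply,
        ← Module.End.mul_apply, ← map_mul, ← map_mul]
      congr 1
      · refine congrFun (congrArg DFunLike.coe (congrArg σ₁ (Subtype.ext ?_))) y
        show s₀ * s₀ * (s₀⁻¹ * m.1 * s₀) = s₀ * m.1 * s₀⁻¹ * (s₀ * s₀)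
        group
      · refine congrFun (congrArg DFunLike.coe (congrArg σ₁ (Subtype.ext ?_))) x
        show m.1 = s₀⁻¹ * (s₀ * m.1 * s₀⁻¹) * s₀
        group)
  have key : ∀ (m : M) (e : E), σM m * ρ e = ρ (φ m e) * σM m := by
    intro m e
    obtain ⟨a, b, rfl⟩ := hsurj e
    have hb' : φ m b.1 ∈ pre z W' := by
      have h1 := hsw _ (h (cm m) _ (hj _ b.2))
      have : φ s₀ ((φ.comp M.subtype) (cm m) (φ s₀⁻¹ b.1)) = φ m b.1 := by
        show φ s₀ (φ (s₀⁻¹ * m.1 * s₀) (φ s₀⁻¹ b.1)) = _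
        rw [← MulAut.mul_apply, ← MulAut.mul_apply, ← map_mul, ← map_mul]
        congr 2
        group
      rwa [← this]
    rw [map_mul (φ m), show φ m a.1 = (restrictHom _ (φ.comp M.subtype) h m a).1 from rfl,
      show φ m b.1 = ((⟨φ m b.1, hb'⟩ : pre z W') : E) from rfl, hρ, hρ]
    have hj2 : j ⟨φ m b.1, hb'⟩ = restrictHom _ (φ.comp M.subtype) h (cm m) (j b) := by
      refine Subtype.ext ?_
      show φ s₀⁻¹ (φ m b.1) = φ (s₀⁻¹ * m.1 * s₀) (φ s₀⁻¹ b.1)
      rw [← MulAut.mul_apply, ← MulAut.mul_apply, ← map_mul, ← map_mul]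
      congr 2
      group
    show TensorProduct.map (σ₁ m) (σ₁ (cm m)) * _ = _ * TensorProduct.map (σ₁ m) (σ₁ (cm m))
    rw [← TensorProduct.map_mul, ← TensorProduct.map_mul, MonoidHom.comp_apply,
      MonoidHom.comp_apply, hj2, hc₁, hc₁]
  have key₀ : ∀ e : E, T * ρ e = ρ (φ s₀ e) * T := by
    intro e
    obtain ⟨a, b, rfl⟩ := hsurj e
    have ha := hsw _ a.2
    have hb := hsw' _ b.2
    have e1 : φ s₀ (a.1 * b.1) = φ s₀ b.1 * φ s₀ a.1 := by
      rw [map_mul]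
      exact ((cc_eq_zero z).1 (by rw [← B_mk, B_symm]; exact ho _ hb _ ha))
    rw [e1, show φ s₀ b.1 = ((⟨_, hb⟩ : pre z W) : E) from rfl,
      show φ s₀ a.1 = ((⟨_, ha⟩ : pre z W') : E) from rfl, hρ, hρ]
    refine TensorProduct.ext' fun x y => ?_
    simp only [Module.End.mul_apply, TensorProduct.map_tmul, hT, MonoidHom.comp_apply]
    have e2 : j ⟨φ s₀ a.1, ha⟩ = a := Subtype.ext (by
      show φ s₀⁻¹ (φ s₀ a.1) = a.1
      rw [← MulAut.mul_apply, ← map_mul, inv_mul_cancel, map_one, MulAut.one_apply])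
    have e3 : restrictHom _ (φ.comp M.subtype) h ⟨s₀ * s₀, hss⟩ (j b) = ⟨φ s₀ b.1, hb⟩ := by
      refine Subtype.ext ?_
      show φ (s₀ * s₀) (φ s₀⁻¹ b.1) = φ s₀ b.1
      rw [← MulAut.mul_apply, ← map_mul, mul_inv_cancel_right]
    rw [e2, ← e3, ← Module.End.mul_apply, hc₁, Module.End.mul_apply]
  refine Ext.of_module z φ ρ σ ?_ hz fun s e => ?_
  · rw [Module.finrank_tensorProduct, Module.finrank_fin_fun]
    refine tensor_dim z hc hn ?_
    rw [hn]
    refine Nat.card_congr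
      { toFun := fun e => ⟨φ s₀ e.1, hsw _ e.2⟩
        invFun := j
        left_inv := fun e => Subtype.ext (by
          show φ s₀⁻¹ (φ s₀ e.1) = e.1
          rw [← MulAut.mul_apply, ← map_mul, inv_mul_cancel, map_one, MulAut.one_apply])
        right_inv := fun e => Subtype.ext (by
          show φ s₀ (φ s₀⁻¹ e.1) = e.1
          rw [← MulAut.mul_apply, ← map_mul, mul_inv_cancel, map_one, MulAut.one_apply]) }
  · by_cases hsM : s ∈ M
    · rw [hσ ⟨s, hsM⟩]; exact key ⟨s, hsM⟩ e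
    · have hm : s * s₀⁻¹ ∈ M := by
        rw [Subgroup.mul_mem_iff_of_index_two hM, inv_mem_iff]; exact iff_of_false hsM hs₀
      have e1 : σ s = σM ⟨_, hm⟩ * T := by
        rw [← hσ ⟨_, hm⟩, ← hσ₀, ← map_mul, inv_mul_cancel_right]
      rw [e1, mul_assoc, key₀, ← mul_assoc, key, mul_assoc]
      congr 2
      show φ (s * s₀⁻¹) (φ s₀ e) = φ s e
      rw [← MulAut.mul_apply, ← map_mul, inv_mul_cancel_right]

end CfsgLib.DadeExt
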