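import Cfsg.Agent.Lib.DadeExt.Main
import Cfsg.Agent.Lib.PGroup.Extraspecial
import Cfsg.Prelude.Def_Transfer

/-!
# Dade's extension theorem
-/

set_option autoImplicit false
set_option linter.unusedSectionVars false

noncomputable section

namespace CfsgLib.DadeExt

universe u

open scoped commutatorElement

variable {G : Type u} [Group G] [Finite G]

/-- An extraspecial 2-group with its central involution. -/
theorem isSymp_of_extraspecial {P : Type u} [Group P] [Finite P] (hP : Cfsg.IsExtraspecial 2 P) :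
    ∃ z : P, IsSymp z := by
  have : Fact (Nat.Prime 2) := ⟨Nat.prime_two⟩
  have hnt : Nontrivial (Subgroup.center P) := Finite.one_lt_card_iff_nontrivial.1 (by rw [hP.2]; norm_num)
  obtain ⟨⟨z, hz⟩, hz1'⟩ := exists_ne (1 : Subgroup.center P)
  have hz1 : z ≠ 1 := fun h => hz1' (Subtype.ext h)
  have hzz : z * z = 1 := by
    rw [← sq]; exact CfsgLib.PGroup.extraspecial_center_pow_eq_one hP hz
  have hc : ∀ {a}, a ∈ Subgroup.center P → a = 1 ∨ a = z := by
    intro a ha
    rw [← CfsgLib.PGroup.extraspecial_zpowers_eq_center hP hz hz1, ← mem_powers_iff_mem_zpowers] at ha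
    obtain ⟨i, rfl⟩ := ha
    rcases Nat.even_or_odd' i with ⟨k, rfl | rfl⟩
    · left; show z ^ (2 * k) = 1; rw [pow_mul, sq, hzz, one_pow]
    · right; show z ^ (2 * k + 1) = z; rw [pow_succ, pow_mul, sq, hzz, one_pow, one_mul]
  refine ⟨z, hz1, hzz, fun e => (Subgroup.mem_center_iff.1 hz e).symm, fun a b => ?_,
    fun a => hc (sq a ▸ CfsgLib.PGroup.extraspecial_pow_mem_center hP a),
    fun a ha => hc (Subgroup.mem_center_iff.2 fun g => (ha g).symm)⟩
  have hm := CfsgLib.PGroup.extraspecial_comm_mem_center hP a b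
  have e : a * b = ⁅a, b⁆ * (b * a) := by rw [commutatorElement_def]; group
  rcases hc hm with h | h
  · left; rw [h, one_mul] at e; exact e
  · right; rw [h] at e; rw [e]; exact (Subgroup.mem_center_iff.1 hz _).symm

/-- A compatible pair of homomorphisms extends to the product. -/
theorem exists_hom_sup (E Q : Subgroup G) [hE : E.Normal] (hEQ : E ⊓ Q = ⊥) {M : Type*} [Monoid M]
    (f : E →* M) (g : Q →* M)
    (hc : ∀ (q : Q) (e : E), g q * f e = f ⟨q * e * (q : G)⁻¹, hE.conj_mem e e.2 q⟩ * g q) :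
    ∃ F : (E ⊔ Q : Subgroup G) →* M, ∀ (e : E), F ⟨e, Subgroup.mem_sup_left e.2⟩ = f e := by
  have hdec : ∀ x : (E ⊔ Q : Subgroup G), ∃ (e : E) (q : Q), (e : G) * q = x := fun x => by
    obtain ⟨e, he, q, hq, h⟩ := Subgroup.mem_sup_of_normal_left.1 x.2
    exact ⟨⟨e, he⟩, ⟨q, hq⟩, h⟩
  choose ee qq h using hdec
  have huniq : ∀ (x : (E ⊔ Q : Subgroup G)) (e : E) (q : Q), (e : G) * q = x → ee x = e ∧ qq x = q := by
    intro x e q he
    have h1 : (e : G)⁻¹ * (ee x : G) = (q : G) * (qq x : G)⁻¹ := by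
      rw [inv_mul_eq_iff_eq_mul, ← mul_assoc, he, ← h x, mul_inv_cancel_right]
    have h2 : (e : G)⁻¹ * (ee x : G) ∈ E ⊓ Q :=
      ⟨E.mul_mem (E.inv_mem e.2) (ee x).2, by rw [h1]; exact Q.mul_mem q.2 (Q.inv_mem (qq x).2)⟩
    rw [hEQ, Subgroup.mem_bot] at h2
    exact ⟨Subtype.ext (inv_mul_eq_one.1 h2).symm,
      Subtype.ext (mul_inv_eq_one.1 (h1.symm.trans h2)).symm⟩
  refine ⟨{ toFun := fun x => f (ee x) * g (qq x), map_one' := ?_, map_mul' := fun x y => ?_ },
    fun e => ?_⟩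
  · obtain ⟨h1, h2⟩ := huniq 1 1 1 (by simp)
    rw [h1, h2, map_one, map_one, one_mul]
  · obtain ⟨h1, h2⟩ := huniq (x * y)
      (ee x * ⟨qq x * ee y * (qq x : G)⁻¹, hE.conj_mem _ (ee y).2 _⟩) (qq x * qq y) (by
        show (ee x : G) * (qq x * ee y * (qq x : G)⁻¹) * ((qq x : G) * qq y) = (x : G) * y
        rw [← h x, ← h y]; group)
    rw [h1, h2, map_mul, map_mul, mul_assoc (f (ee x)), mul_assoc (f (ee x))]
    congr 1
    rw [← mul_assoc, ← mul_assoc, ← hc]
  · obtain ⟨h1, h2⟩ := huniq ⟨e, Subgroup.mem_sup_left e.2⟩ e 1 (by simp)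
    show f _ * g _ = f e
    rw [h1, h2, map_one, mul_one]

/-- Conjugation on a normal subgroup. -/
def conjOn (E : Subgroup G) [hE : E.Normal] (Q : Subgroup G) : Q →* MulAut E :=
  (MulAut.conjNormal (H := E)).comp Q.subtype

set_option maxHeartbeats 1000000 in
theorem dade_extension (E H : Subgroup G) [hEn : E.Normal] (hE : Cfsg.IsExtraspecial 2 ↥E)
    (hEH : E ⊓ H = ⊥) (hEHtop : E ⊔ H = ⊤) (K : Subgroup G) (hKH : K ≤ H)
    (hKn : ∀ h ∈ H, ∀ k ∈ K, h * k * h⁻¹ ∈ K) (hKodd : Odd (Nat.card ↥K)) (hEK : ⁅E, K⁆ = E)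
    (θ : Cfsg.IrrCharacter ↥E) (hθ : ∀ e : ↥E, (θ : ↥E → ℂ) e = (θ : ↥E → ℂ) 1 → e = 1) :
    ∃ χ : Cfsg.IrrCharacter G, ∀ e : ↥E, (χ : G → ℂ) e = (θ : ↥E → ℂ) e := by
  classical
  have : Fact (Nat.Prime 2) := ⟨Nat.prime_two⟩
  obtain ⟨z, hz⟩ := isSymp_of_extraspecial hE
  obtain ⟨θ, hθirr⟩ := θ
  obtain ⟨n, ρ, hρ, rfl⟩ := hθirr
  have hne : ρ.character z ≠ ρ.character 1 := fun h => hz.ne_one (hθ z h)
  obtain ⟨hρz, hn, hvan⟩ := irr_z z ρ hne
  have hinv : ∀ (g : G) (e : E), ρ.character ⟨g * e * g⁻¹, hEn.conj_mem (e : G) e.2 g⟩ = ρ.character e :=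
    fun g e => char_aut z ρ hne (MulAut.conjNormal g) e
  obtain ⟨l, hl⟩ := IsPGroup.iff_card.1 hE.1.1
  -- the determinant
  let δ : E →* ℂˣ := (LinearMap.det.comp ρ).toHomUnits
  have hδ : ∀ (g : G) (e : E), δ ⟨g * e * g⁻¹, hEn.conj_mem e e.2 g⟩ = δ e := by
    intro g e
    obtain ⟨T, hT⟩ := CfsgLib.CharExtension.exists_unit_conj ρ
      (ρ.comp (MulAut.conjNormal g : MulAut E).toMonoidHom) (funext fun x => hinv g x)
    refine Units.ext ?_
    have h2 := congrArg LinearMap.det (hT e)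
    rw [map_mul, map_mul, mul_comm] at h2
    exact (mul_right_cancel₀ (by
      exact (T.isUnit.map (LinearMap.det : Module.End ℂ (Fin n → ℂ) →* ℂ)).ne_zero) h2).symm
  obtain ⟨μ', hμ'⟩ := exists_hom_sup E H hEH δ (1 : H →* ℂˣ) fun q e => by
    rw [MonoidHom.one_apply, one_mul, mul_one]; exact (hδ q e).symm
  let μ : G →* ℂˣ := μ'.comp (MonoidHom.codRestrict (MonoidHom.id G) _ fun g => by
    rw [hEHtop]; exact Subgroup.mem_top g)
  have h2 := CfsgLib.CharExtension.powExtends_degree E ρ μ fun e => congrArg Units.val (hμ' e)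
  -- the prime two
  obtain ⟨R⟩ : Nonempty (Sylow 2 H) := inferInstance
  let Q : Subgroup G := (R : Subgroup H).map H.subtype
  have hQH : Q ≤ H := Subgroup.map_subtype_le _
  have hEQ : E ⊓ Q = ⊥ := eq_bot_iff.2 ((inf_le_inf_left E hQH).trans hEH.le)
  have hQ : IsPGroup 2 Q := R.2.map H.subtype
  let A : Subgroup (MulAut E) := (conjOn E K).range
  have hA : Fpf z A := by
    refine ⟨hKodd.of_dvd_nat (Subgroup.card_range_dvd _), fun v hv => B_eq_zero_of_forall z fun y => ?_⟩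
    let U : Subgroup E :=
      { carrier := {e | B z v (mk z e) = 0}
        one_mem' := by simp [mk_one]
        mul_mem' := fun {a b} ha hb => by
          show B z v (mk z (a * b)) = 0
          rw [mk_mul, map_add, ha, hb, add_zero]
        inv_mem' := fun {a} ha => by
          show B z v (mk z a⁻¹) = 0
          rw [mk_inv, map_neg, ha, neg_zero] }
    have hle : ⁅E, K⁆ ≤ U.map E.subtype := by
      rw [Subgroup.commutator_le]
      intro e he k hk
      let c : MulAut E := MulAut.conjNormal k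
      let e' : E := ⟨e, he⟩
      refine ⟨e' * c e'⁻¹, ?_, ?_⟩
      · show B z v (mk z (e' * c e'⁻¹)) = 0
        rw [mk_mul, map_inv, mk_inv, map_add, map_neg, ← piV_mk]
        have h3 : piV z c v = v := hv c ⟨⟨k, hk⟩, rfl⟩
        conv_lhs => arg 2; arg 1; rw [← h3, piV_B]
        rw [add_neg_cancel]
      · show e * (k * e⁻¹ * k⁻¹) = ⁅e, k⁆
        rw [commutatorElement_def]; group
    obtain ⟨e, rfl⟩ := mk_surjective z y
    obtain ⟨e₁, he₁, he₁e⟩ := hle (hEK.ge e.2)
    rw [← Subtype.ext he₁e (a1 := e₁) (a2 := e)]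
    exact he₁
  have hNA : Normalises (conjOn E Q) A := by
    rintro q _ ⟨k, rfl⟩
    refine ⟨⟨(q : G) * k * (q : G)⁻¹, hKn _ (hQH q.2) _ k.2⟩, ?_⟩
    show MulAut.conjNormal ((q : G) * k * (q : G)⁻¹) =
      MulAut.conjNormal (q : G) * MulAut.conjNormal (k : G) * (MulAut.conjNormal (q : G))⁻¹
    rw [map_mul, map_mul, map_inv]
  obtain ⟨m, ρ', σ, hm, hρ'z, hcompat⟩ := ext_main (Nat.card E) E z Q hQ (conjOn E Q) A rfl hA hNA
  obtain ⟨F, hF⟩ := exists_hom_sup E Q hEQ ρ' σ fun q e => hcompat q e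
  have hchar : ρ'.character = ρ.character := by
    have hnm : m = n := Nat.pow_left_injective two_ne_zero (Nat.eq_of_mul_eq_mul_left two_pos (hm.trans hn.symm))
    funext e
    by_cases h1 : e = 1
    · rw [h1, Representation.char_one, Representation.char_one, hnm]
    by_cases h2 : e = z
    · rw [h2]
      show LinearMap.trace ℂ _ (ρ' z) = LinearMap.trace ℂ _ (ρ z)
      rw [hρ'z, hρz, map_neg, map_neg, LinearMap.trace_one, LinearMap.trace_one, hnm]
    rw [hvan e h1 h2]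
    obtain ⟨b, hb⟩ : ∃ b, b * e ≠ e * b := by
      by_contra hcon
      push Not at hcon
      rcases hz.centre e (fun b => (hcon b).symm) with h3 | h3
      exacts [h1 h3, h2 h3]
    have he : b * e * b⁻¹ = e * z := by
      rw [(hz.comm b e).resolve_left hb, mul_assoc (e * b), hz.central b⁻¹, mul_assoc e,
        mul_inv_cancel_left]
    have h3 := Representation.char_conj ρ' e b
    have h4 : ρ'.character (e * z) = -ρ'.character e := by
      show LinearMap.trace ℂ _ (ρ' (e * z)) = _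
      rw [map_mul, hρ'z, show ρ' e * -1 = -(ρ' e) from LinearMap.ext fun x => map_neg (ρ' e) x, map_neg]
      rfl
    rw [he, h4] at h3
    exact CharZero.neg_eq_self_iff.1 h3
  let Pη : (E ⊔ Q : Subgroup G) → ℂ := Representation.character (F : Representation ℂ _ (Fin m → ℂ))
  obtain ⟨s, hs⟩ := CfsgLib.CharExtension.exists_hom_of_char E ρ (H := E ⊔ Q) le_sup_left
    (η := Pη) ⟨m, F, rfl⟩ fun e => by
      show LinearMap.trace ℂ _ (F ⟨e, _⟩) = _
      rw [hF e]
      exact congrFun hchar e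
  have h1 := CfsgLib.CharExtension.powExtends_of_extension E ρ hinv le_sup_left s hs
  have hcop : Nat.Coprime (E ⊔ Q : Subgroup G).index n := by
    have hdvd : n ∣ 2 ^ l := by rw [← hl, ← hn, sq]; exact dvd_mul_of_dvd_right (dvd_mul_left n n) 2
    refine Nat.Coprime.coprime_dvd_right hdvd (Nat.Coprime.pow_right l ?_)
    rw [Nat.coprime_comm, Nat.Prime.coprime_iff_not_dvd Nat.prime_two]
    intro hd
    have hd2 : (E ⊔ Q : Subgroup G).index ∣ (R : Subgroup H).index := by
      have hcE : ∀ (X : Subgroup G), E ⊓ X = ⊥ →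
          Nat.card (E ⊔ X : Subgroup G) = Nat.card E * Nat.card X := by
        intro X hX
        rw [← Nat.card_prod]
        refine (Nat.card_eq_of_bijective (fun p : E × X =>
          (⟨p.1.1 * p.2.1, Subgroup.mul_mem_sup p.1.2 p.2.2⟩ : (E ⊔ X : Subgroup G))) ⟨?_, ?_⟩).symm
        · exact fun p q hpq => Subgroup.mul_injective_of_disjoint (disjoint_iff.2 hX) (congrArg Subtype.val hpq)
        · rintro ⟨x, hx⟩
          obtain ⟨e, he, q, hq, rfl⟩ := Subgroup.mem_sup_of_normal_left.1 hx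
          exact ⟨(⟨e, he⟩, ⟨q, hq⟩), rfl⟩
      have h5 := (E ⊔ Q : Subgroup G).index_mul_card
      have h6 := (R : Subgroup H).index_mul_card
      have h7 : Nat.card G = Nat.card E * Nat.card H := by
        rw [← hcE H hEH, hEHtop, Subgroup.card_top]
      rw [hcE Q hEQ, h7, Subgroup.card_map_of_injective H.subtype_injective, ← h6] at h5
      have hpos : 0 < Nat.card E * Nat.card (R : Subgroup H) := Nat.mul_pos Nat.card_pos Nat.card_pos
      exact dvd_of_eq (Nat.eq_of_mul_eq_mul_right hpos (h5.trans (by ring)))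
    exact R.not_dvd_index (hd.trans hd2)
  obtain ⟨ν, hν⟩ := CfsgLib.LinearExt.extends_of_coprime hcop h1 h2
  obtain ⟨χ, hχ, hχn⟩ := CfsgLib.CharExtension.exists_irr_of_hom E ρ
    (CfsgLib.CharExtension.extends_of_linear E ρ hinv ν hν)
  exact ⟨⟨χ, hχ⟩, hχn⟩

end CfsgLib.DadeExt
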